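import Cfsg.Agent.OCT.Defs

set_option autoImplicit false
set_option linter.unusedSectionVars false
set_option linter.unnecessarySeqFocus false

namespace Cfsg.Agent.OCT

open OU

universe u v w

variable {K : Type u} [Field K] [Tits K] {G : Type v} [Group G]

theorem chase_kill {r : K} (r0 : r ≠ 0) (r1 : r ≠ 1) (g : K → K) (add : ∀ a b, g (a + b) = g a + g b)
    (hom : ∀ a, a ≠ 0 → g a = a * σ a * g 1) (a : K) : g a = 0 := by
  have h0 : g 0 = 0 := by have := add 0 0; simpa using this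
  have h1 : g 1 = 0 := by
    by_contra c
    have e := add r 1
    rw [hom r r0, hom (r + 1) (fun e => r1 (by grind)), map_add, map_one] at e
    have e1 : σ r = r := mul_right_cancel₀ c (by grind)
    have e2 := σσ r
    rw [e1, e1] at e2
    exact r1 (mul_left_cancel₀ r0 (by grind))
  by_cases h : a = 0
  · rw [h, h0]
  · rw [hom a h, h1, mul_zero]

theorem chase_fix {r : K} (r0 : r ≠ 0) (r1 : r ≠ 1) {b : OU K} (hb : b.x1 = 0) :
    (tor r 1 b = b → b = E8 b.y8 b.x8) ∧ (tor r r⁻¹ b = b → b = Y2 b.y2 * X2 b.x2) ∧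
    (tor (r * σ r)⁻¹ (σ r) b = b → b = Y4 b.y4 * X4 b.x4) ∧ (tor (r * σ r) r⁻¹ b = b → b = Y6 b.y6 * X6 b.x6) := by
  have n2 : σ r ≠ 1 := fun e => r1 (σ_inj.1 (by simpa using e))
  have n3 : r * σ r ≠ 1 := fun e => r1 (nrm_inj (by simpa using e))
  have n4 : r ^ 2 * σ r ≠ 1 := fun e => r1 (nrm2_inj (by simpa using e))
  have s0 : σ r ≠ 0 := by simpa using r0
  have i1 := mul_inv_cancel₀ r0
  have i2 := mul_inv_cancel₀ s0
  refine ⟨fun h => ?_, fun h => ?_, fun h => ?_, fun h => ?_⟩ <;>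
  · simp only [OU.ext_iff, tor_x1, tor_y2, tor_x2, tor_x3, tor_y4, tor_x4, tor_x5, tor_y6, tor_x6, tor_x7, tor_y8,
      tor_x8, mul_left_eq_self₀, map_mul, map_inv₀, map_one, σσ, mul_inv, ← inv_pow] at h
    generalize σ r = s, r⁻¹ = r' at *
    generalize s⁻¹ = s' at *
    obtain ⟨-, h1, h2, h3, h4, h5, h6, h7, h8, h9, h10, h11⟩ := h
    ext <;> simp <;> grind

theorem chase [Finite K] (hq : 2 < Nat.card K) (ν : OU K → OU K) (hT : ∀ a : OU K, a.x1 = 0 → (ν a).x1 = 0)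
    (hm : ∀ a b : OU K, a.x1 = 0 → b.x1 = 0 → ν (a * b) = ν a * ν b)
    (hk : ∀ (k : Kˣ × Kˣ) (a : OU K), a.x1 = 0 → ν (torA k a) = torA k (ν a))
    (hY : ∀ s t : K, ν (EY s t) = EY s t) : ∀ a : OU K, a.x1 = 0 → ν a = a := by
  obtain ⟨r, r0, r1⟩ : ∃ r : K, r ≠ 0 ∧ r ≠ 1 := by
    by_contra! h
    have := Nat.card_le_card_of_surjective (fun b : Bool => if b then (1 : K) else 0) fun a => by
      by_cases e : a = 0
      exacts [⟨false, e.symm⟩, ⟨true, (h a e).symm⟩]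
    simp at this
    omega
  have s0 : σ r ≠ 0 := by simpa using r0
  have σs : ∀ a : K, ∃ b, σ b = a := Finite.surjective_of_injective fun _ _ => σ_inj.1
  have ns : ∀ a : K, ∃ b, b * σ b = a := Finite.surjective_of_injective fun _ _ => nrm_inj
  have fx : ∀ {α β : K}, α ≠ 0 → β ≠ 0 → ∀ a a' : OU K, a.x1 = 0 → tor α β a = a' → tor α β (ν a) = ν a' :=
    fun hα hβ a a' h e => e ▸ (hk (Units.mk0 _ hα, Units.mk0 _ hβ) a h).symm
  have mm : ∀ a b c d : OU K, a.x1 = 0 → b.x1 = 0 → c.x1 = 0 → d.x1 = 0 → a * b = c * d →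
      ν a * ν b = ν c * ν d := fun a b c d h1 h2 h3 h4 e => by rw [← hm a b h1 h2, e, hm c d h3 h4]
  have x4 : ∀ a, ν (X4 a) = X4 a := fun a => hY a 0
  have x6 : ∀ a, ν (X6 a) = X6 a := fun a => hY 0 a
  have f8 := fun a => (chase_fix r0 r1 (hT (Y8 a) rfl)).1 (fx r0 one_ne_zero _ _ rfl (by ext <;> simp))
  have f2 := fun a => (chase_fix r0 r1 (hT (Y2 a) rfl)).2.1 (fx r0 (inv_ne_zero r0) _ _ rfl (by
    ext <;> simp [r0]))
  have f4 := fun a => (chase_fix r0 r1 (hT (Y4 a) rfl)).2.2.1 (fx (inv_ne_zero (mul_ne_zero r0 s0)) s0 _ _ rfl (by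
    ext <;> simp <;> field_simp))
  have f6 := fun a => (chase_fix r0 r1 (hT (Y6 a) rfl)).2.2.2 (fx (mul_ne_zero r0 s0) (inv_ne_zero r0) _ _ rfl (by
    ext <;> simp <;> field_simp))
  have y4 : ∀ a, ν (Y4 a) = Y4 a := by
    have e : ∀ a, (ν (Y4 a)).y4 = a := fun a => nrm_inj (by
      have := congrArg OU.x4 ((hm (Y4 a) (Y4 a) rfl rfl).symm.trans
        ((congrArg ν (by ext <;> simp <;> grind)).trans (x4 (a * σ a))))
      rw [f4] at this
      simp at this
      grind)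
    have k := chase_kill r0 r1 (fun a => (ν (Y4 a)).x4) (fun a b => by
      have := congrArg OU.x4 (mm (Y4 a) (Y4 b) (Y4 (a + b)) (X4 (a * σ b)) rfl rfl rfl rfl (by ext <;> simp))
      rw [f4 a, f4 b, f4 (a + b), x4, e, e, e] at this
      simp at this
      grind) fun a ha => by
      obtain ⟨b, rfl⟩ := σs a
      have := congrArg OU.x4 (fx (α := b) (by simpa using ha) one_ne_zero (Y4 1) (Y4 (σ b)) rfl (by ext <;> simp))
      simp at this ⊢
      grind
    intro a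
    rw [f4, e, k]
    ext <;> simp
  have y6 : ∀ a, ν (Y6 a) = Y6 a := by
    have e : ∀ a, (ν (Y6 a)).y6 = a := fun a => nrm_inj (by
      have := congrArg OU.x6 ((hm (Y6 a) (Y6 a) rfl rfl).symm.trans
        ((congrArg ν (by ext <;> simp <;> grind)).trans (x6 (a * σ a))))
      rw [f6] at this
      simp at this
      grind)
    have k := chase_kill r0 r1 (fun a => (ν (Y6 a)).x6) (fun a b => by
      have := congrArg OU.x6 (mm (Y6 a) (Y6 b) (Y6 (a + b)) (X6 (a * σ b)) rfl rfl rfl rfl (by ext <;> simp))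
      rw [f6 a, f6 b, f6 (a + b), x6, e, e, e] at this
      simp at this
      grind) fun a ha => by
      have := congrArg OU.x6 (fx ha one_ne_zero (Y6 1) (Y6 a) rfl (by ext <;> simp))
      simp at this ⊢
      grind
    intro a
    rw [f6, e, k]
    ext <;> simp
  have cm : ∀ a b c : OU K, a.x1 = 0 → b.x1 = 0 → c.x1 = 0 → ν a = a → ν b = b → b * a = c * (a * b) → ν c = c :=
    fun a b c h1 h2 h3 e1 e2 e => by
      have := mm b a c (a * b) h2 h1 h3 (by simp [h1, h2]) e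
      rw [hm a b h1 h2, e1, e2, e] at this
      exact (mul_right_cancel this).symm
  have x5 : ∀ a, ν (X5 a) = X5 a := fun a => cm (Y4 a) (Y6 1) _ rfl rfl rfl (y4 _) (y6 _) (by ext <;> simp)
  have e2 : ∀ a, (ν (Y2 a)).y2 = a := fun a => by
    have := congrArg OU.x4 (mm (X5 1) (Y2 a) (X4 a) (Y2 a * X5 1) rfl rfl rfl (by simp) (by ext <;> simp))
    rw [hm _ _ rfl rfl, f2, x4, x5] at this
    simpa using this
  have x2 : ∀ a, ν (X2 a) = X2 a := fun a => by
    obtain ⟨a, rfl⟩ := ns a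
    rw [show X2 (a * σ a) = Y2 a * Y2 a by ext <;> simp <;> grind, hm _ _ rfl rfl, f2, e2]
    ext <;> simp <;> grind
  have y2 : ∀ a, ν (Y2 a) = Y2 a := by
    have k := chase_kill r0 r1 (fun a => (ν (Y2 a)).x2) (fun a b => by
      have := congrArg OU.x2 (mm (Y2 a) (Y2 b) (Y2 (a + b)) (X2 (a * σ b)) rfl rfl rfl rfl (by ext <;> simp))
      rw [f2 a, f2 b, f2 (a + b), x2, e2, e2, e2] at this
      simp at this
      grind) fun a ha => by
      have := congrArg OU.x2 (fx ha one_ne_zero (Y2 1) (Y2 a) rfl (by ext <;> simp))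
      simp at this ⊢
      grind
    intro a
    rw [f2, e2, k]
    ext <;> simp
  have e8 : ∀ a, (ν (Y8 a)).y8 = a := fun a => by
    have := congrArg OU.x6 (mm (Y8 a) (X5 1) (X6 a) (X5 1 * Y8 a) rfl rfl rfl (by simp) (by ext <;> simp))
    rw [hm _ _ rfl rfl, f8, x6, x5] at this
    simpa using this
  have x8 : ∀ a, ν (X8 a) = X8 a := fun a => by
    obtain ⟨a, rfl⟩ := ns a
    rw [show X8 (a * σ a) = Y8 a * Y8 a by ext <;> simp <;> grind, hm _ _ rfl rfl, f8, e8]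
    ext <;> simp <;> grind
  have y8 : ∀ a, ν (Y8 a) = Y8 a := by
    have k := chase_kill r0 r1 (fun a => (ν (Y8 a)).x8) (fun a b => by
      have := congrArg OU.x8 (mm (Y8 a) (Y8 b) (Y8 (a + b)) (X8 (a * σ b)) rfl rfl rfl rfl (by ext <;> simp))
      rw [f8 a, f8 b, f8 (a + b), x8, e8, e8, e8] at this
      simp at this
      grind) fun a ha => by
      have := congrArg OU.x8 (fx one_ne_zero ha (Y8 1) (Y8 a) rfl (by ext <;> simp))
      simp at this ⊢
      grind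
    intro a
    rw [f8, e8, k]
    ext <;> simp
  have x3 : ∀ a, ν (X3 a) = X3 a := fun a => cm (Y2 a) (Y4 1) _ rfl rfl rfl (y2 _) (y4 _) (by ext <;> simp)
  have x7 : ∀ a, ν (X7 a) = X7 a := fun a => cm (Y6 a) (Y8 1) _ rfl rfl rfl (y6 _) (y8 _) (by ext <;> simp)
  intro a ha
  have st : ∀ b c : OU K, b.x1 = 0 → ν b = b → c.x1 = 0 ∧ ν c = c → (b * c).x1 = 0 ∧ ν (b * c) = b * c :=
    fun b c h1 h2 h3 => ⟨by simp [h1, h3.1], by rw [hm b c h1 h3.1, h2, h3.2]⟩
  rw [nf a, ha, show X1 (0 : K) = 1 from rfl, one_mul]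
  exact (st _ _ rfl (y2 _) (st _ _ rfl (x2 _) (st _ _ rfl (x3 _) (st _ _ rfl (y4 _) (st _ _ rfl (x4 _)
    (st _ _ rfl (x5 _) (st _ _ rfl (y6 _) (st _ _ rfl (x6 _) (st _ _ rfl (x7 _)
      (st _ _ rfl (y8 _) ⟨rfl, x8 _⟩)))))))))).2

end Cfsg.Agent.OCT
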