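import Cfsg.Agent.OCT.Iso1
import Cfsg.Agent.OCT.Chr

/-! The Bruhat decomposition of `gen`, the centralizer of `τ` and the uniqueness of `gen`.  See `notes/OCT.md`. -/

set_option autoImplicit false
set_option linter.unusedSectionVars false
set_option linter.unusedVariables false
set_option linter.unusedSimpArgs false
set_option linter.unnecessarySeqFocus false

namespace Cfsg.Agent.OCT

open OU

universe u v w

variable {K : Type u} [Field K] [Tits K] {G : Type v} [Group G]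

variable {G' : Type w} [Group G']

/-- the action of the two reflections in coordinates -/
def i2stp (s : Bool) (a : OU K) : OU K := bif s then OU.mu a else OU.nu a

/-- the domain of `i2stp` -/
def i2ok (s : Bool) (a : OU K) : Prop := bif s then a.x1 = 0 else a.y8 = 0 ∧ a.x8 = 0

/-- `i2stp` can be applied `k` times, alternately -/
def i2chain : ℕ → Bool → OU K → Prop
  | 0, _, _ => True
  | k + 1, s, a => i2ok s a ∧ i2chain k (!s) (i2stp s a)

theorem i2chain_mono : ∀ {k l : ℕ} {s : Bool} {a : OU K}, k ≤ l → i2chain l s a → i2chain k s a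
  | 0, _, _, _, _, _ => trivial
  | k + 1, 0, _, _, h, _ => absurd h (by omega)
  | k + 1, l + 1, _, _, h, e => ⟨e.1, i2chain_mono (by omega) e.2⟩

/-- the simple root subgroups -/
def i2Rt (s : Bool) : Subgroup (OU K) := bif s then sU1 else sU8

theorem i2chain_root {s : Bool} {a : OU K} (ha : a ∈ (i2Rt s : Subgroup (OU K))) : i2chain 7 (!s) a := by
  cases s
  · replace ha := mem_sU8.1 ha
    simp [i2chain, i2stp, i2ok, ha]
  · replace ha := mem_sU1.1 ha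
    simp [i2chain, i2stp, i2ok, ha]

theorem i2split (s : Bool) (a : OU K) : ∃ t, i2ok s t ∧ ∃ e ∈ (i2Rt s : Subgroup (OU K)), a = t * e := by
  cases s
  · refine ⟨a * (E8 a.y8 a.x8)⁻¹, ⟨?_, ?_⟩, E8 a.y8 a.x8, mem_sU8.2 (by simp), by group⟩ <;> simp <;> grind
  · refine ⟨a * (X1 a.x1)⁻¹, ?_, X1 a.x1, mem_sU1.2 (by simp), by group⟩
    simp [i2ok, CharTwo.add_self_eq_zero]

theorem i2kappa {α β : Kˣ} (h : (α : K) ^ 2 * σ (α : K) * (β : K) ^ 3 * σ (β : K) ^ 2 = 1) :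
    (α, β) = dk (α * (σu α)⁻¹) := by
  have h1 : α ^ 2 * σu α * β ^ 3 * σu β ^ 2 = 1 := Units.ext (by simpa using h)
  have h2 := congrArg σu h1
  simp only [σu_mul, σu_pow, σu_σu, σu_one] at h2
  have h3 : β * α ^ 2 * (σu α)⁻¹ = 1 := by
    calc β * α ^ 2 * (σu α)⁻¹ = (α ^ 2 * σu α * β ^ 3 * σu β ^ 2) ^ 3 *
        ((σu α ^ 2 * α ^ 2 * σu β ^ 3 * (β ^ 2) ^ 2) ^ 2)⁻¹ := by
          rw [eq_mul_inv_iff_mul_eq]; simp only [mul_pow, ← pow_mul]
          rw [mul_right_comm, mul_inv_eq_iff_eq_mul]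
          apply Units.ext; push_cast; ring
      _ = 1 := by rw [h1, h2]; simp
  rw [dk_apply]
  simp only [σu_mul, σu_inv, σu_σu]
  refine Prod.ext ?_ ?_
  · apply Units.ext; push_cast; field_simp
  · change β = σu α * (α ^ 2)⁻¹
    rw [mul_inv_eq_one] at h3
    rw [← h3]; simp

namespace FR

variable (f : FR K G)

/-- the Borel subgroup -/
def iB1 : Subgroup G where
  carrier := {g | ∃ a k, g = f.u a * f.h k}
  one_mem' := ⟨1, 1, by simp⟩
  mul_mem' := by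
    rintro _ _ ⟨a, k, rfl⟩ ⟨b, l, rfl⟩
    exact ⟨a * torA k b, k * l, by rw [map_mul, map_mul, ← f.hu]; group⟩
  inv_mem' := by
    rintro _ ⟨a, k, rfl⟩
    exact ⟨torA k⁻¹ a⁻¹, k⁻¹, by rw [← f.hu, map_inv, map_inv]; group⟩

theorem u_iB1 (a : OU K) : f.u a ∈ f.iB1 := ⟨a, 1, by simp⟩
theorem h_iB1 (k : Kˣ × Kˣ) : f.h k ∈ f.iB1 := ⟨1, k, by simp⟩

/-- the two reflections -/
def iRf (s : Bool) : G := bif s then f.m else f.n

theorem iRf_sq (s : Bool) : f.iRf s * f.iRf s = 1 := by cases s; exacts [f.nn, f.mm]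

theorem iRf_inv (s : Bool) : (f.iRf s)⁻¹ = f.iRf s := inv_eq_of_mul_eq_one_right (f.iRf_sq s)

theorem iRf_u {s : Bool} {a : OU K} (h : i2ok s a) : f.iRf s * f.u a * f.iRf s = f.u (i2stp s a) := by
  cases s; exacts [f.nu a h, f.mu a h]

theorem iRf_h (s : Bool) (k : Kˣ × Kˣ) : ∃ l, f.iRf s * f.h k * f.iRf s = f.h l := by
  cases s; exacts [⟨_, f.nh k.1 k.2⟩, ⟨_, f.mh k.1 k.2⟩]

/-- alternating words -/
def iWd : ℕ → Bool → G
  | 0, _ => 1
  | k + 1, s => f.iRf s * iWd k (!s)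

theorem iWd_eight (s : Bool) : f.iWd 8 (!s) = f.iWd 8 s := by
  have e : f.iWd 8 true = f.iWd 8 false := by
    have h1 : f.iWd 8 true = (f.m * f.n) ^ 4 := by simp [iWd, iRf, pow_succ, mul_assoc]
    have h2 : f.iWd 8 false = ((f.m * f.n) ^ 4)⁻¹ := by
      rw [← inv_pow, mul_inv_rev, f.toCR.n_inv, inv_eq_of_mul_eq_one_right f.mm]
      simp [iWd, iRf, pow_succ, mul_assoc]
    rw [h1, h2, eq_inv_iff_mul_eq_one, ← pow_add, f.rel]
  cases s; exacts [e, e.symm]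

theorem i2chain_U : ∀ {k : ℕ} {s : Bool} {a : OU K}, i2chain k s a →
    ∃ b, f.u a * f.iWd k s = f.iWd k s * f.u b
  | 0, _, a, _ => ⟨a, by simp [iWd]⟩
  | k + 1, s, a, h => by
    obtain ⟨b, e⟩ := i2chain_U h.2
    refine ⟨b, ?_⟩
    rw [iWd, mul_assoc, ← e, ← f.iRf_u h.1]
    calc _ = (f.iRf s * f.iRf s) * f.u a * f.iRf s * f.iWd k !s := by rw [f.iRf_sq]; group
      _ = _ := by group

theorem iRf_B1 (s : Bool) {b : G} (hb : b ∈ f.iB1) :
    ∃ b' ∈ f.iB1, ∃ e ∈ (i2Rt s : Subgroup (OU K)), f.iRf s * b = b' * f.iRf s * f.u e := by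
  obtain ⟨a, k, rfl⟩ := hb
  obtain ⟨t, ht, e, he, h⟩ := i2split s (torA k⁻¹ a)
  obtain ⟨l, hl⟩ := f.iRf_h s k
  refine ⟨f.h l * f.u (i2stp s t), mul_mem (f.h_iB1 _) (f.u_iB1 _), e, he, ?_⟩
  have h1 : f.u a * f.h k = f.h k * (f.u t * f.u e) := by
    rw [← map_mul, ← h, ← f.hu, map_inv]; group
  rw [h1, ← hl, ← f.iRf_u ht]
  calc _ = f.iRf s * f.h k * (f.iRf s * f.iRf s) * f.u t * (f.iRf s * f.iRf s) * f.u e := by
        rw [f.iRf_sq]; group
    _ = _ := by group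

theorem iRf_root {s : Bool} {e : OU K} (he : e ∈ (i2Rt s : Subgroup (OU K))) (h1 : e ≠ 1) :
    ∃ b' ∈ f.iB1, ∃ e' ∈ (i2Rt s : Subgroup (OU K)), f.iRf s * f.u e * f.iRf s = b' * f.iRf s * f.u e' := by
  cases s
  · obtain ⟨a₁, -, s, a₂, h₂, h⟩ := f.bru e he h1
    exact ⟨_, mul_mem (f.u_iB1 a₁) (f.hd s ▸ f.h_iB1 _), a₂, h₂, h⟩
  · replace he := mem_sU1.1 he
    have e1 : e = X1 e.x1 := by ext <;> simp [he]
    have e0 : e.x1 ≠ 0 := fun h => h1 (by rw [e1, h]; rfl)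
    have h := f.sl (Units.mk0 e.x1 e0)⁻¹
    rw [inv_inv, Units.val_mk0, ← e1] at h
    refine ⟨_, mul_mem (inv_mem (f.u_iB1 (X1 ((Units.mk0 e.x1 e0)⁻¹ : Kˣ))))
      (f.h_iB1 ((Units.mk0 e.x1 e0)⁻¹ ^ 2, Units.mk0 e.x1 e0)),
      (X1 ((Units.mk0 e.x1 e0)⁻¹ : Kˣ))⁻¹, inv_mem (mem_sU1.2 (by simp)), ?_⟩
    change f.m * f.u e * f.m = _ * f.m * _
    rw [mul_assoc (_⁻¹), ← h, map_inv]; group

/-- the union of the Bruhat cells -/
def ICell (g : G) : Prop := ∃ b ∈ f.iB1, ∃ k ≤ 8, ∃ s, ∃ b' ∈ f.iB1, g = b * f.iWd k s * b'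

theorem ICell.left {f : FR K G} {g b : G} (h : f.ICell g) (hb : b ∈ f.iB1) : f.ICell (b * g) := by
  obtain ⟨b1, h1, k, hk, s, b2, h2, rfl⟩ := h
  exact ⟨_, mul_mem hb h1, k, hk, s, b2, h2, by group⟩

theorem ICell.iRf {f : FR K G} {g : G} (h : f.ICell g) (s : Bool) : f.ICell (f.iRf s * g) := by
  obtain ⟨b1, h1, k, hk, s', b2, h2, rfl⟩ := h
  obtain ⟨b, hb, e, he, e1⟩ := f.iRf_B1 s h1
  have up : ∀ {b : G} {e : OU K} {k : ℕ}, b ∈ f.iB1 → e ∈ (i2Rt s : Subgroup (OU K)) → k ≤ 7 →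
      f.ICell (b * f.iRf s * f.u e * f.iWd k (!s) * b2) := fun {b e k} hb he hk => by
    obtain ⟨a, ha⟩ := f.i2chain_U (i2chain_mono hk (i2chain_root he))
    exact ⟨b, hb, k + 1, by omega, s, _, mul_mem (f.u_iB1 a) h2, by
      rw [mul_assoc _ (f.u e), ha, iWd]; group⟩
  have down : ∀ {k : ℕ}, k ≤ 7 → f.ICell (b * f.iRf s * f.u e * f.iWd (k + 1) s * b2) := fun {k} hk => by
    by_cases h0 : e = 1
    · refine ⟨b, hb, k, by omega, !s, b2, h2, ?_⟩
      rw [h0, map_one, iWd]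
      calc _ = b * (f.iRf s * f.iRf s) * f.iWd k (!s) * b2 := by group
        _ = _ := by rw [f.iRf_sq]; group
    · obtain ⟨b', hb', e', he', e2⟩ := f.iRf_root he h0
      have := up (mul_mem hb hb') he' hk
      rw [iWd]
      convert this using 1
      calc _ = b * (f.iRf s * f.u e * f.iRf s) * f.iWd k (!s) * b2 := by group
        _ = _ := by rw [e2]; group
  rw [show f.iRf s * (b1 * f.iWd k s' * b2) = f.iRf s * b1 * f.iWd k s' * b2 by group, e1]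
  by_cases hs : s' = s
  · subst hs
    rcases k with _ | k
    · exact up (k := 0) hb he (by omega)
    · exact down (by omega)
  · obtain rfl : s' = !s := by cases s <;> cases s' <;> simp at hs ⊢
    rcases hk.lt_or_eq with hk | rfl
    · exact up hb he (by omega)
    · rw [f.iWd_eight]; exact down le_rfl

theorem icell {g : G} (hg : g ∈ f.toFR0.gen) : f.ICell g := by
  let S : Subgroup G :=
    { carrier := {g | ∀ x, f.ICell x ↔ f.ICell (g * x)}
      one_mem' := fun x => by simp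
      mul_mem' := fun ha hb x => by rw [mul_assoc]; exact (hb x).trans (ha _)
      inv_mem' := fun {a} ha x => by simpa using (ha (a⁻¹ * x)).symm }
  have hB : ∀ b ∈ f.iB1, b ∈ S := fun b hb x =>
    ⟨fun h => h.left hb, fun h => by simpa using h.left (inv_mem hb)⟩
  have hr : ∀ s, f.iRf s ∈ S := fun s x =>
    ⟨fun h => h.iRf s, fun h => by simpa [← mul_assoc, f.iRf_sq] using h.iRf s⟩
  have hle : f.toFR0.gen ≤ S := sup_le (sup_le (f.toCR.C_le (fun a => hB _ (f.u_iB1 a))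
    (fun s => hB _ (f.hd s ▸ f.h_iB1 _)) (hr false)) (by rintro _ ⟨k, rfl⟩; exact hB _ (f.h_iB1 k)))
    (Subgroup.zpowers_le.2 (hr true))
  simpa using (hle hg 1).1 ⟨1, one_mem _, 0, by omega, true, 1, one_mem _, by simp [iWd]⟩

/-- conjugation by an alternating word -/
def iCw : ℕ → Bool → G → G
  | 0, _, x => x
  | k + 1, s, x => f.iRf s * iCw k (!s) x * f.iRf s

theorem iCw_eq : ∀ (k : ℕ) (s : Bool) (x : G), f.iCw k s x = f.iWd k s * x * (f.iWd k s)⁻¹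
  | 0, _, x => by simp [iCw, iWd]
  | k + 1, s, x => by rw [iCw, iCw_eq k, iWd, mul_inv_rev, f.iRf_inv]; group

theorem i2n_x4 (t : K) : f.n * f.u (X4 t) * f.n = f.u (X4 t) := by
  rw [f.nu _ (by simp)]; congr 1; ext <;> simp

theorem iWd_fix_m {k : ℕ} (hk : k ≤ 8) {a a' : K} (ha : a' ≠ 0)
    (h : f.iCw k true (f.u (X4 a')) = f.u (X4 a)) : k = 0 := by
  have N4 := f.i2n_x4
  have M4 : ∀ t, f.m * f.u (X4 t) * f.m = f.u (X6 t) := fun t => by
    rw [f.mu _ (by simp)]; congr 1; ext <;> simp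
  have N6 : ∀ t, f.n * f.u (X6 t) * f.n = f.u (X2 t) := fun t => by
    rw [f.nu _ (by simp)]; congr 1; ext <;> simp
  have M2 : ∀ t, f.m * f.u (X2 t) * f.m = f.u (X8 t) := fun t => by
    rw [f.mu _ (by simp)]; congr 1; ext <;> simp
  have key : ∀ b, f.n * f.u (X8 a') * f.n ≠ f.u b := fun b e =>
    ha (by simpa using (mem_sQ.1 (f.toCR.mem_Q_of ⟨b, e.symm⟩)).2)
  have mv : ∀ {g x y : G}, g * g = 1 → g * x * g = y → x = g * y * g := fun {g x y} hg e => by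
    rw [← e]
    calc x = (g * g) * x * (g * g) := by rw [hg]; group
      _ = _ := by group
  have k6 : f.u (X6 a') ≠ f.u (X4 a) := fun e => ha (by simpa using congrArg OU.x6 (f.inj e))
  have k8 : f.u (X8 a') ≠ f.u (X4 a) := fun e => ha (by simpa using congrArg OU.x8 (f.inj e))
  interval_cases k
  · rfl
  all_goals
    simp only [iCw, iRf, Bool.not_true, Bool.not_false, cond_true, cond_false, N4, M4, N6, M2] at h
  · exact absurd h k6
  · exact absurd h k6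
  · exact absurd h k8
  · exact absurd h k8
  · exact absurd ((mv f.mm h).trans (M4 a)) (key _)
  · exact absurd ((mv f.mm h).trans (M4 a)) (key _)
  · exact absurd ((mv f.mm ((mv f.nn ((mv f.mm h).trans (M4 a))).trans (N6 a))).trans (M2 a)) (key _)
  · exact absurd ((mv f.mm ((mv f.nn ((mv f.mm h).trans (M4 a))).trans (N6 a))).trans (M2 a)) (key _)

theorem iWd_fix {k : ℕ} (hk : k ≤ 8) {s : Bool} {a a' : K} (ha : a' ≠ 0)
    (h : f.iWd k s * f.u (X4 a') * (f.iWd k s)⁻¹ = f.u (X4 a)) : k = 0 ∨ (k = 1 ∧ s = false) := by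
  rw [← iCw_eq] at h
  cases s
  · rcases k with _ | k
    · exact Or.inl rfl
    · refine Or.inr ⟨?_, rfl⟩
      rw [f.iWd_fix_m (k := k) (a := a) (by omega) ha ?_]
      rw [← f.i2n_x4 a, ← h]
      change _ = f.n * (f.n * f.iCw k true _ * f.n) * f.n
      calc _ = (f.n * f.n) * f.iCw k true (f.u (X4 a')) * (f.n * f.n) := by rw [f.nn]; group
        _ = _ := by group
  · exact Or.inl (f.iWd_fix_m hk ha h)

theorem iB1_conj (a x : OU K) (k : Kˣ × Kˣ) :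
    f.u a * f.h k * f.u x * (f.u a * f.h k)⁻¹ = f.u (a * torA k x * a⁻¹) := by
  rw [map_mul, map_mul, map_inv, ← f.hu]; group

theorem iB1_conj_Z (a : OU K) (k : Kˣ × Kˣ) (t : K) :
    f.u a * f.h k * f.u (X4 t) * (f.u a * f.h k)⁻¹ =
      f.u (X4 ((k.1 : K) ^ 2 * σ (k.1 : K) * (k.2 : K) ^ 3 * σ (k.2 : K) ^ 2 * t)) := by
  rw [f.iB1_conj, bru_cZ a (by simp)]
  congr 1
  ext <;> simp

theorem iB1_Z {b : G} (hb : b ∈ f.iB1) {t : K} (ht : t ≠ 0) :
    ∃ t', t' ≠ 0 ∧ b * f.u (X4 t) * b⁻¹ = f.u (X4 t') := by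
  obtain ⟨a, k, rfl⟩ := hb
  exact ⟨_, by simp [ht], f.iB1_conj_Z a k t⟩

theorem iB1_cent {b : G} (hb : b ∈ f.iB1) (h : Commute b f.toCR.τ) : b ∈ f.toCR.C := by
  obtain ⟨a, k, rfl⟩ := hb
  have h1 : f.u a * f.h k * f.u (X4 1) * (f.u a * f.h k)⁻¹ = f.u (X4 1) := by
    rw [mul_inv_eq_iff_eq_mul]; exact h.eq
  rw [f.iB1_conj_Z] at h1
  have h2 := congrArg OU.x4 (f.inj h1)
  simp only [X4_x4, mul_one] at h2
  have h3 : k = _ := i2kappa h2
  rw [h3, ← f.hd]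
  exact mul_mem (f.toCR.u_mem a) (f.toCR.d_mem _)

theorem n_not_iB1 : f.n ∉ f.iB1 := by
  rintro ⟨a, k, e⟩
  have h1 := f.iB1_conj a (X7 1) k
  rw [← e, f.toCR.n_inv, f.nu _ (by simp)] at h1
  have h2 := mem_sT.1 (bru_cT a (x := torA k (X7 1)) (by simp))
  rw [← f.inj h1] at h2
  simp at h2

theorem iB1_one {a : OU K} {k : Kˣ × Kˣ} (h : f.u a * f.h k = 1) : a = 1 ∧ k = 1 := by
  have h1 : ∀ x, x = a * torA k x * a⁻¹ := fun x => f.inj (by rw [← f.iB1_conj, h]; group)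
  have h2 := congrArg OU.x1 (h1 (X1 1))
  have h3 := congrArg OU.y8 (h1 (Y8 1))
  have hk : k = 1 := by
    refine Prod.ext (Units.ext ?_) (Units.ext ?_)
    · simp at h2
      rw [Prod.fst_one, Units.val_one]
      linear_combination -h2 - a.x1 * (two0 : (2 : K) = 0)
    · simp at h3
      rw [Prod.snd_one, Units.val_one]
      linear_combination -h3 - a.y8 * (two0 : (2 : K) = 0)
  subst hk
  exact ⟨f.inj (by simpa using h), rfl⟩

theorem cent {g : G} (hg : g ∈ f.toFR0.gen) (h : Commute g f.toCR.τ) : g ∈ f.toCR.C := by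
  obtain ⟨b, hb, k, hk, s, b', hb', rfl⟩ := f.icell hg
  obtain ⟨t, ht, e⟩ := f.iB1_Z (inv_mem hb) one_ne_zero
  obtain ⟨t', ht', e'⟩ := f.iB1_Z hb' one_ne_zero
  have h1 : f.iWd k s * f.u (X4 t') * (f.iWd k s)⁻¹ = f.u (X4 t) := by
    have h2 : b * f.iWd k s * b' * f.u (X4 1) * (b * f.iWd k s * b')⁻¹ = f.u (X4 1) := by
      rw [mul_inv_eq_iff_eq_mul]; exact h.eq
    rw [← e, ← e']
    conv_rhs => rw [← h2]
    group
  rcases f.iWd_fix hk ht' h1 with rfl | ⟨rfl, rfl⟩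
  · exact f.iB1_cent (mul_mem (mul_mem hb (one_mem _)) hb') h
  · obtain ⟨b2, h2, x, -, e2⟩ := f.iRf_B1 false hb'
    have e3 : b * f.iWd 1 false * b' = b * b2 * (f.n * f.u x) := by
      rw [iWd, iWd, mul_one, mul_assoc, e2]; change b * (b2 * f.n * f.u x) = _; group
    have hc : f.n * f.u x ∈ f.toCR.C := mul_mem f.toCR.n_mem (f.toCR.u_mem x)
    rw [e3] at h ⊢
    refine mul_mem (f.iB1_cent (mul_mem hb h2) ?_) hc
    have := h.mul_left (f.toCR.comm_Z hc f.toCR.τ_mem_Z).inv_left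
    rwa [mul_inv_cancel_right] at this

theorem i2hom_equiv (f' : FR K G') (π : G →* G') (hu : ∀ a, π (f.u a) = f'.u a) (hh : ∀ k, π (f.h k) = f'.h k)
    (hn : π f.n = f'.n) (hm : π f.m = f'.m) :
    ∃ e : f.toFR0.gen ≃* f'.toFR0.gen, ∀ x, (e x : G') = π x := by
  have hB : ∀ b ∈ f.iB1, π b ∈ f'.iB1 := by
    rintro _ ⟨a, k, rfl⟩
    exact ⟨a, k, by rw [map_mul, hu, hh]⟩
  have hr : ∀ s, π (f.iRf s) = f'.iRf s := fun s => by cases s; exacts [hn, hm]
  have hw : ∀ k s, π (f.iWd k s) = f'.iWd k s := fun k => by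
    induction k with
    | zero => intro s; simp [iWd]
    | succ k ih => intro s; rw [iWd, iWd, map_mul, hr, ih]
  have hi : Function.Injective (π.comp f.toFR0.gen.subtype) := by
    rw [injective_iff_map_eq_one]
    rintro ⟨g, hg⟩ h
    obtain ⟨b, hb, k, hk, s, b', hb', rfl⟩ := f.icell hg
    have h1 : f'.iWd k s ∈ f'.iB1 := by
      have h2 : π b * f'.iWd k s * π b' = 1 := by rw [← hw, ← map_mul, ← map_mul]; exact h
      have h3 : f'.iWd k s = (π b)⁻¹ * (π b')⁻¹ := by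
        rw [eq_mul_inv_iff_mul_eq, eq_inv_iff_mul_eq_one, mul_eq_one_comm, ← mul_assoc]; exact h2
      rw [h3]
      exact mul_mem (inv_mem (hB _ hb)) (inv_mem (hB _ hb'))
    obtain ⟨t, -, e⟩ := f'.iB1_Z h1 one_ne_zero
    rcases f'.iWd_fix hk one_ne_zero e with rfl | ⟨rfl, rfl⟩
    · obtain ⟨a, k, e⟩ : b * f.iWd 0 s * b' ∈ f.iB1 := mul_mem (mul_mem hb (one_mem _)) hb'
      have h2 : f'.u a * f'.h k = 1 := by rw [← hu, ← hh, ← map_mul, ← e]; exact h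
      obtain ⟨rfl, rfl⟩ := f'.iB1_one h2
      exact Subtype.ext (by simpa using e)
    · exact absurd (by simpa [iWd, iRf] using h1) f'.n_not_iB1
  have hd : π.comp f.d = f'.d := MonoidHom.ext fun s => by rw [MonoidHom.comp_apply, f.hd, f'.hd, hh]
  have hg : (π.comp f.toFR0.gen.subtype).range = f'.toFR0.gen := by
    rw [MonoidHom.range_comp, Subgroup.range_subtype]
    simp only [FR0.gen, CR.C, Subgroup.map_sup, ← MonoidHom.range_comp, MonoidHom.map_zpowers, hn, hm, hd,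
      show π.comp f.u = f'.u from MonoidHom.ext hu, show π.comp f.h = f'.h from MonoidHom.ext hh]
  exact ⟨(MonoidHom.ofInjective hi).trans (MulEquiv.subgroupCongr hg), fun x => rfl⟩

/-- the diagonal structure -/
def i2diag (f' : FR K G') : FR K (G × G') where
  u := f.u.prod f'.u
  n := (f.n, f'.n)
  d := f.d.prod f'.d
  inj _ _ e := f.inj (congrArg Prod.fst e)
  nn := Prod.ext f.nn f'.nn
  nu a ha := Prod.ext (f.nu a ha) (f'.nu a ha)
  du s a := Prod.ext (f.du s a) (f'.du s a)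
  nd s := Prod.ext (f.nd s) (f'.nd s)
  bru a ha h1 := by
    obtain ⟨a₁, h₁, s, a₂, h₂, e⟩ := f.bru a ha h1
    exact ⟨a₁, h₁, s, a₂, h₂, Prod.ext e (f.toCR.bru_same f'.toCR ha h₁ h₂ e)⟩
  h := f.h.prod f'.h
  hu k a := Prod.ext (f.hu k a) (f'.hu k a)
  hd s := Prod.ext (f.hd s) (f'.hd s)
  nh α β := Prod.ext (f.nh α β) (f'.nh α β)
  m := (f.m, f'.m)
  mm := Prod.ext f.mm f'.mm
  mu a ha := Prod.ext (f.mu a ha) (f'.mu a ha)
  mh α β := Prod.ext (f.mh α β) (f'.mh α β)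
  sl t := Prod.ext (f.sl t) (f'.sl t)
  rel := Prod.ext f.rel f'.rel

theorem iso (f' : FR K G') : ∃ e : f.toFR0.gen ≃* f'.toFR0.gen,
    ∀ a (ha : f.u a ∈ f.toFR0.gen), (e ⟨f.u a, ha⟩ : G') = f'.u a := by
  obtain ⟨e1, h1⟩ := (f.i2diag f').i2hom_equiv f (MonoidHom.fst G G') (fun _ => rfl) (fun _ => rfl) rfl rfl
  obtain ⟨e2, h2⟩ := (f.i2diag f').i2hom_equiv f' (MonoidHom.snd G G') (fun _ => rfl) (fun _ => rfl) rfl rfl
  refine ⟨e1.symm.trans e2, fun a ha => ?_⟩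
  have hm : (f.i2diag f').u a ∈ (f.i2diag f').toFR0.gen :=
    Subgroup.mem_sup_left (Subgroup.mem_sup_left ((f.i2diag f').toCR.u_mem a))
  have h3 : e1.symm ⟨f.u a, ha⟩ = ⟨_, hm⟩ := e1.symm_apply_eq.2 (Subtype.ext (h1 ⟨_, hm⟩).symm)
  rw [MulEquiv.trans_apply, h3, h2]
  rfl

end FR

end Cfsg.Agent.OCT
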