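import Cfsg.Agent.OCT.U2
import Cfsg.Agent.H40.Cc
import Cfsg.Agent.H40.F4b

/-! The coordinate group `OU K` embeds in the Chevalley group of type F₄. -/

set_option autoImplicit false

namespace Cfsg.Agent.OCT

open Cfsg.Lie Cfsg.Agent.H37 Cfsg.Agent.H40

/-- polynomial expressions in variables and their images under `σ` -/
inductive SE : Type
  | v : ℕ → SE
  | s : ℕ → SE
  | add : SE → SE → SE
  | mul : SE → SE → SE
  | pow : SE → ℕ → SE

/-- the primes coding the variables -/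
def prs : List ℕ := [2, 3, 5, 7, 11, 13, 17, 19, 23, 29, 31, 37, 41, 43, 47, 53, 59, 61, 67, 71, 73, 79, 83, 89,
  97, 101, 103, 107, 109, 113, 127, 131, 137, 139, 149, 151, 157, 163, 167, 173, 179, 181, 191, 193, 197, 199, 211, 223]

namespace SE

/-- value of an expression -/
def ev {K : Type*} [Field K] [Tits K] (x : List K) : SE → K
  | v i => (x.take 24).getD i 0
  | s i => σ ((x.take 24).getD i 0)
  | add a b => a.ev x + b.ev x
  | mul a b => a.ev x * b.ev x
  | pow a k => a.ev x ^ k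

/-- apply `σ` -/
def sig : SE → SE
  | v i => s i
  | s i => pow (v i) 2
  | add a b => add a.sig b.sig
  | mul a b => mul a.sig b.sig
  | pow a k => pow a.sig k

/-- normal form -/
noncomputable def toPol : SE → Pol
  | v i => [(prs.getD (2 * i) 0, 1)]
  | s i => [(prs.getD (2 * i + 1) 0, 1)]
  | add a b => padd 2 a.toPol b.toPol
  | mul a b => pmul 2 a.toPol b.toPol
  | pow a k => ppow 2 a.toPol k

/-- a sum -/
def sm (a : SE) (l : List SE) : SE := l.foldl add a

/-- a coordinate of the product -/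
def mx1 : SE := sm (v 0)
  [v 12]
/-- a coordinate of the product -/
def my2 : SE := sm (v 1)
  [v 13, mul (v 10) (v 12)]
/-- a coordinate of the product -/
def mx2 : SE := sm (v 2)
  [v 14, mul (v 1) (s 13), mul (v 4) (v 12), mul (v 7) (s 12), mul (mul (v 1) (s 10)) (s 12), mul (mul (v 10) (v
   12)) (s 13), mul (mul (v 11) (v 12)) (s 12)]
/-- a coordinate of the product -/
def mx3 : SE := sm (v 3)
  [v 15, mul (v 4) (v 13), mul (s 7) (v 12), mul (v 9) (s 12), mul (v 10) (v 14), mul (mul (v 4) (v 10)) (v 12),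
   mul (mul (v 10) (v 13)) (s 13), mul (mul (v 11) (s 12)) (v 13), mul (mul (s 11) (v 12)) (s 12), mul (mul (mul (v
   10) (v 11)) (v 12)) (s 12), mul (mul (mul (pow (v 10) 2) (s 10)) (v 12)) (s 12)]
/-- a coordinate of the product -/
def my4 : SE := sm (v 4)
  [v 16, mul (v 10) (s 13), mul (v 11) (s 12)]
/-- a coordinate of the product -/
def mx4 : SE := sm (v 5)
  [v 17, mul (v 4) (s 16), mul (v 6) (v 13), mul (v 7) (v 15), mul (v 8) (v 12), mul (v 9) (v 14), mul (v 10) (s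
   15), mul (v 11) (s 14), mul (mul (v 6) (v 10)) (v 12), mul (mul (v 7) (v 9)) (s 12), mul (mul (v 7) (v 10)) (v
   14), mul (mul (v 9) (v 13)) (s 13), mul (mul (s 9) (v 12)) (v 13), mul (mul (v 10) (s 13)) (s 16), mul (mul (s
   10) (v 13)) (v 15), mul (mul (v 11) (v 12)) (v 15), mul (mul (v 11) (s 12)) (s 16), mul (mul (v 11) (v 13)) (v
   14), mul (mul (s 11) (v 12)) (v 14), mul (mul (v 4) (s 10)) (pow (v 13) 2), mul (mul (v 4) (s 11)) (pow (v 12)
   2), mul (mul (mul (v 7) (v 10)) (v 13)) (s 13), mul (mul (mul (v 7) (v 11)) (s 12)) (v 13), mul (mul (mul (v 7)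
   (s 11)) (v 12)) (s 12), mul (mul (mul (v 9) (s 10)) (s 12)) (v 13), mul (mul (mul (v 9) (v 11)) (v 12)) (s 12),
   mul (mul (s 9) (v 10)) (pow (v 12) 2), mul (mul (mul (v 10) (s 10)) (v 12)) (v 15), mul (mul (mul (v 10) (s 10))
   (v 13)) (v 14), mul (mul (v 11) (pow (v 13) 2)) (s 13), mul (mul (mul (s 11) (v 12)) (v 13)) (s 13), mul (mul
   (mul (mul (v 7) (v 10)) (v 11)) (v 12)) (s 12), mul (mul (mul (mul (v 9) (v 10)) (s 10)) (v 12)) (s 12), mul
   (mul (mul (v 10) (s 10)) (pow (v 13) 2)) (s 13), mul (mul (mul (s 10) (v 11)) (s 12)) (pow (v 13) 2), mul (mul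
   (mul (mul (s 10) (s 11)) (v 12)) (s 12)) (v 13), mul (mul (mul (v 11) (s 11)) (pow (v 12) 2)) (s 12), mul (mul
   (mul (pow (v 11) 2) (v 12)) (s 12)) (v 13), mul (mul (mul (mul (v 7) (pow (v 10) 2)) (s 10)) (v 12)) (s 12), mul
   (mul (mul (mul (v 10) (s 10)) (s 11)) (pow (v 12) 2)) (s 12), mul (mul (mul (v 10) (pow (v 11) 2)) (pow (v 12)
   2)) (s 12), mul (mul (mul (mul (pow (v 10) 2) (pow (s 10) 2)) (v 12)) (s 12)) (v 13), mul (mul (mul (pow (v 10)
   3) (pow (s 10) 2)) (pow (v 12) 2)) (s 12)]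
/-- a coordinate of the product -/
def mx5 : SE := sm (v 6)
  [v 18, mul (v 7) (v 16), mul (v 9) (s 13), mul (s 9) (v 12), mul (s 10) (v 15), mul (v 11) (v 14), mul (mul (v
   7) (v 10)) (s 13), mul (mul (v 7) (v 11)) (s 12), mul (mul (v 9) (s 10)) (s 12), mul (mul (v 10) (s 10)) (v 14),
   mul (mul (s 10) (v 13)) (v 16), mul (mul (v 11) (v 12)) (v 16), mul (mul (s 11) (v 12)) (s 13), mul (mul (mul (v
   10) (s 10)) (v 12)) (v 16), mul (mul (mul (s 10) (s 11)) (v 12)) (s 12), mul (mul (pow (v 11) 2) (v 12)) (s 12),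
   mul (mul (mul (pow (v 10) 2) (pow (s 10) 2)) (v 12)) (s 12)]
/-- a coordinate of the product -/
def my6 : SE := sm (v 7)
  [v 19, mul (s 10) (v 13), mul (v 11) (v 12), mul (mul (v 10) (s 10)) (v 12)]
/-- a coordinate of the product -/
def mx6 : SE := sm (v 8)
  [v 20, mul (v 7) (s 19), mul (v 9) (v 16), mul (s 9) (v 13), mul (v 10) (v 18), mul (v 11) (v 15), mul (s 11) (v
   14), mul (mul (v 7) (s 11)) (s 12), mul (mul (v 9) (v 10)) (s 13), mul (mul (v 9) (v 11)) (s 12), mul (mul (s 9)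
   (v 10)) (v 12), mul (mul (v 10) (v 11)) (v 14), mul (mul (s 10) (v 13)) (s 19), mul (mul (v 11) (v 12)) (s 19),
   mul (mul (v 11) (v 13)) (v 16), mul (mul (s 11) (v 12)) (v 16), mul (mul (s 11) (v 13)) (s 13), mul (mul (v 7)
   (pow (v 10) 2)) (s 13), mul (mul (mul (v 10) (s 10)) (v 12)) (s 19), mul (mul (mul (v 10) (v 11)) (v 12)) (v
   16), mul (mul (mul (v 10) (s 11)) (v 12)) (s 13), mul (mul (pow (v 10) 2) (s 10)) (v 14), mul (mul (mul (s 10)
   (s 11)) (s 12)) (v 13), mul (mul (pow (v 11) 2) (s 12)) (v 13), mul (mul (mul (v 7) (pow (v 10) 2)) (s 10)) (s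
   12), mul (mul (mul (mul (v 10) (s 10)) (s 11)) (v 12)) (s 12), mul (mul (mul (v 10) (pow (v 11) 2)) (v 12)) (s
   12), mul (mul (mul (pow (v 10) 2) (s 10)) (v 12)) (v 16), mul (mul (mul (pow (v 10) 2) (pow (s 10) 2)) (s 12))
   (v 13), mul (mul (mul (pow (v 10) 3) (pow (s 10) 2)) (v 12)) (s 12)]
/-- a coordinate of the product -/
def mx7 : SE := sm (v 9)
  [v 21, mul (v 10) (v 19), mul (v 11) (v 13), mul (s 11) (v 12), mul (mul (v 10) (v 11)) (v 12), mul (mul (pow (v
   10) 2) (s 10)) (v 12)]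
/-- a coordinate of the product -/
def my8 : SE := sm (v 10)
  [v 22]
/-- a coordinate of the product -/
def mx8 : SE := sm (v 11)
  [v 23, mul (v 10) (s 22)]

end SE

open SE

variable {K : Type*} [Field K] [Tits K]

theorem ev_sig (x : List K) (e : SE) : e.sig.ev x = σ (e.ev x) := by
  induction e with
  | v i => rfl
  | s i => simp [sig, SE.ev]
  | add a b ha hb => simp [sig, SE.ev, ha, hb]
  | mul a b ha hb => simp [sig, SE.ev, ha, hb]
  | pow a k ha => simp [sig, SE.ev, ha]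

/-- the assignment of values to primes -/
def prVal (x : List K) (q : ℕ) : K :=
  if prs.idxOf q % 2 = 0 then (x.take 24).getD (prs.idxOf q / 2) 0 else σ ((x.take 24).getD (prs.idxOf q / 2) 0)

theorem evM_prs (x : List K) (i : ℕ) : evM (prVal x) (prs.getD i 0) =
    if i % 2 = 0 then (x.take 24).getD (i / 2) 0 else σ ((x.take 24).getD (i / 2) 0) := by
  by_cases h : i < 48
  · have : (prs.getD i 0).Prime ∧ prs.idxOf (prs.getD i 0) = i := by revert i; decide +kernel
    rw [evM_prime _ this.1, prVal, this.2]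
  · rw [List.getD_eq_default _ _ (by simp [prs]; omega), evM_zero,
      List.getD_eq_default _ _ (by simp; omega)]
    simp

theorem cast2 : ((2 : ℤ) : K) = 0 := by exact_mod_cast two0

theorem evP_SE (x : List K) (e : SE) : H40.evP (prVal x) e.toPol = e.ev x := by
  induction e with
  | v i => simp [toPol, SE.ev, H40.evP, -List.getD_eq_getElem?_getD, evM_prs]
  | s i => simp [toPol, SE.ev, H40.evP, -List.getD_eq_getElem?_getD, evM_prs, Nat.add_mod, Nat.add_div]
  | add a b ha hb => simp [toPol, SE.ev, evP_padd _ cast2, ha, hb]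
  | mul a b ha hb => simp [toPol, SE.ev, H40.evP_pmul _ cast2, ha, hb]
  | pow a k ha => simp [toPol, SE.ev, H40.evP_ppow _ cast2, ha]

/-- normal form of a word -/
noncomputable def sPol {β : Type} (w : List (ℕ × SE)) : (PVec → β) → β :=
  List.rec (fun k => k []) (fun e _ ih k => forceN e.1 fun r => forceP e.2.toPol fun Q =>
    ih fun l => k ((r, Q) :: l)) w

theorem sPol_eq {β : Type} (w : List (ℕ × SE)) (k : PVec → β) :
    sPol w k = k (w.map fun e => (e.1, e.2.toPol)) := by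
  induction w generalizing k with
  | nil => rfl
  | cons e w ih =>
    show (forceN e.1 fun r => forceP e.2.toPol fun Q => sPol w fun l => k ((r, Q) :: l)) = _
    simp only [forceN_eq, forceP_eq, ih, List.map_cons]

/-- check that two words have the same collected form -/
noncomputable def scheck (w₁ w₂ : List (ℕ × SE)) : Bool :=
  ((w₁ ++ w₂).all fun e => Nat.blt e.1 chevF4.nroots) && sPol w₁ fun a => sPol w₂ fun b =>
    collect chevF4 2 a == collect chevF4 2 b

theorem gword_eq_of_sc {w₁ w₂ : List (ℕ × SE)} (h : scheck w₁ w₂ = true) (x : List K) :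
    gword (SF K).x (w₁.map fun e => (e.1, e.2.ev x)) = gword (SF K).x (w₂.map fun e => (e.1, e.2.ev x)) := by
  simp only [scheck, sPol_eq, Bool.and_eq_true, List.all_eq_true, Nat.blt_eq, List.mem_append, beq_iff_eq] at h
  have h1 : ∀ w : List (ℕ × SE), (∀ e ∈ w, e.1 < chevF4.nroots) →
      gword (SF K).x (w.map fun e => (e.1, e.2.ev x)) =
      gP (SF K) (prVal x) (collect chevF4 2 (w.map fun e => (e.1, e.2.toPol))) := fun w hw => by
    rw [gP_collect (SF K) cast2 _ (List.forall_mem_map.2 hw), gP, List.map_map]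
    simp only [Function.comp_def, evP_SE]
  rw [h1 _ fun e he => h.1 e (Or.inl he), h1 _ fun e he => h.1 e (Or.inr he), h.2]

/-- the word of an element, with formal coordinates -/
def wS (x1 y2 x2 x3 y4 x4 x5 y6 x6 x7 y8 x8 : SE) : List (ℕ × SE) :=
  [(33, x1), (24, x1.sig), (34, y2), (26, y2.sig), (36, add (mul y2 y2.sig) x2), (42, x2.sig), (38, x3),
    (43, x3.sig), (29, y4), (41, y4.sig), (44, add (mul y4 y4.sig) x4), (47, x4.sig), (39, x5), (45, x5.sig),
    (35, y6), (31, y6.sig), (40, add (mul y6 y6.sig) x6), (46, x6.sig), (37, x7), (32, x7.sig), (27, y8),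
    (25, y8.sig), (28, add (mul y8 y8.sig) x8), (30, x8.sig)]

/-- the word of an element -/
def wd (a : OU K) : List (ℕ × K) :=
  [(33, a.x1), (24, σ a.x1), (34, a.y2), (26, σ a.y2), (36, a.y2 * σ a.y2 + a.x2), (42, σ a.x2), (38, a.x3),
    (43, σ a.x3), (29, a.y4), (41, σ a.y4), (44, a.y4 * σ a.y4 + a.x4), (47, σ a.x4), (39, a.x5), (45, σ a.x5),
    (35, a.y6), (31, σ a.y6), (40, a.y6 * σ a.y6 + a.x6), (46, σ a.x6), (37, a.x7), (32, σ a.x7), (27, a.y8),
    (25, σ a.y8), (28, a.y8 * σ a.y8 + a.x8), (30, σ a.x8)]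

theorem wS_ev (x : List K) (x1 y2 x2 x3 y4 x4 x5 y6 x6 x7 y8 x8 : SE) :
    ((wS x1 y2 x2 x3 y4 x4 x5 y6 x6 x7 y8 x8).map fun e => (e.1, e.2.ev x)) =
      wd ⟨x1.ev x, y2.ev x, x2.ev x, x3.ev x, y4.ev x, x4.ev x, x5.ev x, y6.ev x, x6.ev x, x7.ev x, y8.ev x,
        x8.ev x⟩ := by
  simp only [wS, wd, List.map_cons, List.map_nil, SE.ev, ev_sig]

theorem chk_mul : scheck (wS (v 0) (v 1) (v 2) (v 3) (v 4) (v 5) (v 6) (v 7) (v 8) (v 9) (v 10) (v 11) ++
    wS (v 12) (v 13) (v 14) (v 15) (v 16) (v 17) (v 18) (v 19) (v 20) (v 21) (v 22) (v 23))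
    (wS mx1 my2 mx2 mx3 my4 mx4 mx5 my6 mx6 mx7 my8 mx8) = true := by
  decide +kernel

/-- the matrix of an element -/
noncomputable def uw (a : OU K) : GL chevF4.Idx K := gword (SF K).x (wd a)

theorem uw_mul (a b : OU K) : uw (a * b) = uw a * uw b := by
  have h := gword_eq_of_sc chk_mul [a.x1, a.y2, a.x2, a.x3, a.y4, a.x4, a.x5, a.y6, a.x6, a.x7, a.y8, a.x8,
    b.x1, b.y2, b.x2, b.x3, b.y4, b.x4, b.x5, b.y6, b.x6, b.x7, b.y8, b.x8]
  rw [List.map_append, gword_append, wS_ev, wS_ev, wS_ev] at h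
  exact h.symm

/-- the embedding -/
noncomputable def uh : OU K →* GL chevF4.Idx K := MonoidHom.mk' uw uw_mul

theorem uh_apply (a : OU K) : uh a = gword (SF K).x (wd a) := rfl

theorem uh_inj : Function.Injective (uh : OU K →* GL chevF4.Idx K) := fun a b h => by
  have := nf_inj isChev_F4 (w := wd a) (w' := wd b) rfl
    (show [33, 24, 34, 26, 36, 42, 38, 43, 29, 41, 44, 47, 39, 45, 35, 31, 40, 46, 37, 32, 27, 25, 28, 30].Nodup
      by decide)
    (show ∀ r ∈ [33, 24, 34, 26, 36, 42, 38, 43, 29, 41, 44, 47, 39, 45, 35, 31, 40, 46, 37, 32, 27, 25, 28, 30],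
      r < 48 by decide)
    (Or.inl (show ∀ r ∈ [33, 24, 34, 26, 36, 42, 38, 43, 29, 41, 44, 47, 39, 45, 35, 31, 40, 46, 37, 32, 27, 25,
      28, 30], 24 ≤ r by decide)) h
  simp only [wd, List.cons.injEq, Prod.mk.injEq, true_and, σ_inj] at this
  ext <;> tauto

end Cfsg.Agent.OCT
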