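import Cfsg.Agent.OCT.ModA
import Cfsg.Agent.OCT.Defs

/-! The Weyl elements and the torus acting on the image of `OU K` in the Chevalley group of type F₄. -/

set_option autoImplicit false
set_option linter.unusedSectionVars false

namespace Cfsg.Agent.OCT

open Cfsg.Lie Cfsg.Agent.H37 Cfsg.Agent.H37.Chev Cfsg.Agent.H40 SE OU

namespace SE

/-- a coordinate -/
def nx2 : SE := sm (v 8)
  [mul (v 1) (s 9), mul (v 4) (v 9)]
/-- a coordinate -/
def nx3 : SE := sm (v 6)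
  [mul (v 0) (s 9), mul (s 1) (v 9), mul (v 4) (v 7)]
/-- a coordinate -/
def nx4 : SE := sm (v 5)
  [mul (v 0) (v 8), mul (v 1) (v 6), mul (v 2) (v 9), mul (v 3) (v 7), mul (mul (v 0) (v 1)) (s 9), mul (mul (v 0)
   (v 4)) (v 9), mul (mul (v 0) (v 7)) (s 7), mul (mul (s 0) (v 7)) (v 9), mul (mul (v 1) (v 4)) (v 7)]
/-- a coordinate -/
def nx5 : SE := sm (v 3)
  [mul (v 0) (s 7), mul (s 0) (v 9), mul (v 1) (v 4)]
/-- a coordinate -/
def nx6 : SE := sm (v 2)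
  [mul (v 0) (v 4), mul (s 0) (v 7)]
/-- a coordinate -/
def mux3 : SE := sm (v 9)
  [mul (v 1) (v 11), mul (v 7) (v 10), mul (mul (v 1) (v 10)) (s 10)]
/-- a coordinate -/
def muy4 : SE := sm (v 7)
  [mul (v 1) (s 10)]
/-- a coordinate -/
def mux4 : SE := sm (v 8)
  [mul (v 1) (s 9), mul (v 2) (s 11), mul (v 3) (v 11), mul (v 4) (v 9), mul (v 6) (v 10), mul (mul (s 1) (v 9))
   (v 10), mul (mul (v 2) (v 10)) (v 11), mul (mul (v 3) (v 10)) (s 10), mul (mul (v 4) (v 7)) (v 10), mul (mul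
   (mul (v 1) (s 1)) (v 10)) (v 11), mul (mul (s 1) (v 7)) (pow (v 10) 2), mul (mul (v 2) (pow (v 10) 2)) (s 10),
   mul (mul (mul (v 1) (s 1)) (pow (v 10) 2)) (s 10)]
/-- a coordinate -/
def mux5 : SE := sm (v 6)
  [mul (s 1) (v 9), mul (v 2) (v 11), mul (v 3) (s 10), mul (v 4) (v 7), mul (mul (v 1) (s 1)) (v 11)]
/-- a coordinate -/
def muy6 : SE := sm (v 4)
  [mul (s 1) (v 10)]
/-- a coordinate -/
def mux6 : SE := sm (v 5)
  [mul (v 1) (v 6), mul (v 2) (v 9), mul (s 2) (v 11), mul (v 3) (v 7), mul (s 3) (v 10), mul (mul (v 1) (v 2)) (v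
   11), mul (mul (v 1) (v 3)) (s 10), mul (mul (v 1) (v 4)) (v 7), mul (mul (s 1) (s 4)) (v 10), mul (mul (s 2) (v
   10)) (s 10), mul (mul (pow (v 1) 2) (s 1)) (v 11)]
/-- a coordinate -/
def mux7 : SE := sm (v 3)
  [mul (v 1) (v 4), mul (v 2) (v 10)]

end SE

variable {K : Type*} [Field K] [Tits K]

theorem nw_conj_x {L : List ℕ} (hL : ∀ i ∈ L, i < chevF4.rank) {r : ℕ} (hr : r < chevF4.nroots) (t : K) :
    wact chevF4 L r < chevF4.nroots ∧
      nw (SF K) L * (SF K).x r t * (nw (SF K) L)⁻¹ = (SF K).x (wact chevF4 L r) t := by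
  induction L with
  | nil => exact ⟨hr, by simp [nw, wact]⟩
  | cons i L ih =>
    have hi := hL i List.mem_cons_self
    obtain ⟨h1, h2⟩ := ih fun k hk => hL k (List.mem_cons_of_mem _ hk)
    have h3 : wact chevF4 (i :: L) r = refl chevF4 (chevF4.simple i) (wact chevF4 L r) := reflectRoot_eq hi _
    refine ⟨h3 ▸ refl_lt (simple_lt i hi) h1, ?_⟩
    have h4 := n_conj' (SF K) (simple_lt i hi) h1 one_ne_zero t
    have h5 : ((eta chevF4 (chevF4.simple i) (wact chevF4 L r) : ℤ) : K) = 1 := by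
      rcases eta_eq_or (simple_lt i hi) h1 with e | e <;> rw [e]
      · exact Int.cast_one
      · rw [Int.cast_neg, Int.cast_one, CharTwo.neg_eq]
    rw [h5, one_zpow, one_mul, one_mul] at h4
    rw [h3, ← h4, ← h2, nw_cons]
    group

theorem nw_conj_word {L : List ℕ} (hL : ∀ i ∈ L, i < chevF4.rank) {w : List (ℕ × K)}
    (hw : ∀ r ∈ w.map Prod.fst, r < chevF4.nroots) :
    nw (SF K) L * gword (SF K).x w * (nw (SF K) L)⁻¹ = gword (SF K).x (w.map fun e => (wact chevF4 L e.1, e.2)) := by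
  induction w with
  | nil => simp [gword]
  | cons a w ih =>
    rw [List.map_cons, gword_cons, gword_cons, ← ih fun p hp => hw p (List.mem_cons_of_mem _ hp),
      ← (nw_conj_x hL (hw a.1 List.mem_cons_self) a.2).2]
    group

theorem nw_append (L L' : List ℕ) : nw (SF K) (L ++ L') = nw (SF K) L * nw (SF K) L' := by simp [nw]

theorem nw_eq_of_check {L L' : List ℕ} (h : wcheck chevF4 2 (nwPE chevF4 L) (nwPE chevF4 L') = true) :
    nw (SF K) L = nw (SF K) L' := by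
  rw [nw_eq_gword _ _ [], nw_eq_gword _ _ []]
  exact gword_eq_of_check isChev_F4 cast2 h []

/-- the Weyl element of the Suzuki parabolic -/
noncomputable def nN (K : Type*) [Field K] : GL chevF4.Idx K := nw (SF K) [1, 2, 1, 2]
/-- the Weyl element of the `SL₂` parabolic -/
noncomputable def mM (K : Type*) [Field K] : GL chevF4.Idx K := nw (SF K) [0, 3]

theorem nN_sq : nN K * nN K = 1 := by
  rw [nN, ← nw_append]; exact nw_eq_of_check (L' := []) (by decide +kernel)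

theorem mM_sq : mM K * mM K = 1 := by
  rw [mM, ← nw_append]; exact nw_eq_of_check (L' := []) (by decide +kernel)

theorem mn_pow : (mM K * nN K) ^ 8 = 1 := by
  have h : (mM K * nN K) ^ 4 = (nN K * mM K) ^ 4 := by
    simp only [mM, nN, pow_succ, pow_zero, one_mul, ← nw_append]
    exact nw_eq_of_check (by decide +kernel)
  have h2 : nN K * mM K = (mM K * nN K)⁻¹ := by
    rw [mul_inv_rev, inv_eq_of_mul_eq_one_right nN_sq, inv_eq_of_mul_eq_one_right mM_sq]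
  rw [show 8 = 4 + 4 from rfl, pow_add]
  nth_rewrite 2 [h]
  rw [h2, inv_pow, mul_inv_cancel]

theorem x0 {r : ℕ} (hr : r < 48) : (SF K).x r 0 = 1 := x_zero _ hr

theorem uh_Q {a : OU K} (ha : a ∈ (sQ : Subgroup (OU K))) : uh a = gword (SF K).x ((wd a).take 20) := by
  rw [uh_apply, ← List.take_append_drop 20 (wd a), gword_append, List.take_append_drop]
  simp [wd, ha.1, ha.2, gword, x0]

theorem uh_T {a : OU K} (ha : a.x1 = 0) : uh a = gword (SF K).x ((wd a).drop 2) := by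
  rw [uh_apply, ← List.take_append_drop 2 (wd a), gword_append, List.take_append_drop]
  simp [wd, ha, gword, x0]

theorem chk_nu : scheck (((wS (v 0) (v 1) (v 2) (v 3) (v 4) (v 5) (v 6) (v 7) (v 8) (v 9) (v 10) (v 11)).take 20).map
    fun e => (wact chevF4 [1, 2, 1, 2] e.1, e.2))
    ((wS (v 9) (v 7) nx2 nx3 (v 4) nx4 nx5 (v 1) nx6 (v 0) (v 24) (v 24)).take 20) = true := by
  decide +kernel

theorem chk_mu : scheck (((wS (v 0) (v 1) (v 2) (v 3) (v 4) (v 5) (v 6) (v 7) (v 8) (v 9) (v 10) (v 11)).drop 2).map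
    fun e => (wact chevF4 [0, 3] e.1, e.2))
    ((wS (v 24) (v 10) (v 11) mux3 muy4 mux4 mux5 muy6 mux6 mux7 (v 1) (v 2)).drop 2) = true := by
  decide +kernel

theorem map_ev_map (f : ℕ → ℕ) (w : List (ℕ × SE)) (x : List K) :
    ((w.map fun e => (f e.1, e.2)).map fun e => (e.1, e.2.ev x)) =
      (w.map fun e => (e.1, e.2.ev x)).map fun e => (f e.1, e.2) := by
  simp [List.map_map, Function.comp_def]

theorem map_ev_take (k : ℕ) (w : List (ℕ × SE)) (x : List K) :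
    ((w.take k).map fun e => (e.1, e.2.ev x)) = (w.map fun e => (e.1, e.2.ev x)).take k := List.map_take

theorem map_ev_drop (k : ℕ) (w : List (ℕ × SE)) (x : List K) :
    ((w.drop k).map fun e => (e.1, e.2.ev x)) = (w.map fun e => (e.1, e.2.ev x)).drop k := List.map_drop

theorem nN_conj (a : OU K) (ha : a ∈ (sQ : Subgroup (OU K))) : nN K * uh a * nN K = uh (nu a) := by
  have h := gword_eq_of_sc chk_nu [a.x1, a.y2, a.x2, a.x3, a.y4, a.x4, a.x5, a.y6, a.x6, a.x7, a.y8, a.x8]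
  rw [map_ev_map, map_ev_take, map_ev_take, wS_ev, wS_ev] at h
  nth_rewrite 2 [← inv_eq_of_mul_eq_one_right nN_sq]
  rw [uh_Q ha, uh_Q (a := nu a) ⟨rfl, rfl⟩, nN, nw_conj_word (w := (wd a).take 20) (by decide)
    (show ∀ r ∈ [33, 24, 34, 26, 36, 42, 38, 43, 29, 41, 44, 47, 39, 45, 35, 31, 40, 46, 37, 32], r < 48 by decide)]
  exact h

theorem mM_conj (a : OU K) (ha : a.x1 = 0) : mM K * uh a * mM K = uh (mu a) := by
  have h := gword_eq_of_sc chk_mu [a.x1, a.y2, a.x2, a.x3, a.y4, a.x4, a.x5, a.y6, a.x6, a.x7, a.y8, a.x8]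
  rw [map_ev_map, map_ev_drop, map_ev_drop, wS_ev, wS_ev] at h
  nth_rewrite 2 [← inv_eq_of_mul_eq_one_right mM_sq]
  rw [uh_T ha, uh_T (a := mu a) rfl, mM, nw_conj_word (w := (wd a).drop 2) (by decide)
    (show ∀ r ∈ [34, 26, 36, 42, 38, 43, 29, 41, 44, 47, 39, 45, 35, 31, 40, 46, 37, 32, 27, 25, 28, 30], r < 48
      by decide)]
  exact h

/-- a monomial in `α, σα, β, σβ` -/
def mon (k : Kˣ × Kˣ) (e : ℤ × ℤ × ℤ × ℤ) : Kˣ :=
  k.1 ^ e.1 * σu k.1 ^ e.2.1 * k.2 ^ e.2.2.1 * σu k.2 ^ e.2.2.2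

/-- exponents of the torus coordinates -/
def exT (i : ℕ) : ℤ × ℤ × ℤ × ℤ := [(2, 1, 3, 2), (3, 2, 6, 4), (4, 3, 8, 6), (2, 2, 4, 3)].getD i 0

/-- exponents of the weight of a root -/
def exR (r : ℕ) : ℤ × ℤ × ℤ × ℤ :=
  chevF4.cartan 0 r • exT 0 + chevF4.cartan 1 r • exT 1 + chevF4.cartan 2 r • exT 2 + chevF4.cartan 3 r • exT 3

theorem mon_add (k : Kˣ × Kˣ) (e e' : ℤ × ℤ × ℤ × ℤ) : mon k (e + e') = mon k e * mon k e' := by
  simp only [mon, Prod.fst_add, Prod.snd_add, zpow_add]; ac_rfl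

theorem mon_smul (k : Kˣ × Kˣ) (n : ℤ) (e : ℤ × ℤ × ℤ × ℤ) : mon k (n • e) = mon k e ^ n := by
  simp only [mon, Prod.smul_fst, Prod.smul_snd, smul_eq_mul, mul_zpow, ← zpow_mul, mul_comm n]

theorem chi_mon (k : Kˣ × Kˣ) (r : ℕ) : chi chevF4 (fun i => mon k (exT i)) r = mon k (exR r) := by
  simp only [chiF4, exR, mon_add, mon_smul]

/-- the torus -/
noncomputable def hT : Kˣ × Kˣ →* GL chevF4.Idx K :=
  (hhHom (SF K) (matRel_adj _ _)).comp (MonoidHom.mk' (fun k i => mon k (exT i)) fun a b => by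
    funext i
    simp only [mon, Pi.mul_apply, Prod.fst_mul, Prod.snd_mul, σu_mul, mul_zpow]
    ac_rfl)

theorem isH_hT (k : Kˣ × Kˣ) : IsH (SF K) (hT k) fun i => mon k (exT i) := isH_hh _ _

theorem exR_tab : exR 33 = (1, 0, 0, 0) ∧ exR 24 = (0, 1, 0, 0) ∧ exR 34 = (1, 0, 1, 0) ∧ exR 26 = (0, 1, 0, 1) ∧
    exR 36 = (1, 1, 1, 1) ∧ exR 42 = (2, 1, 2, 1) ∧ exR 38 = (1, 1, 2, 1) ∧ exR 43 = (2, 1, 2, 2) ∧
    exR 29 = (0, 1, 1, 1) ∧ exR 41 = (2, 0, 2, 1) ∧ exR 44 = (2, 1, 3, 2) ∧ exR 47 = (2, 2, 4, 3) ∧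
    exR 39 = (1, 1, 2, 2) ∧ exR 45 = (2, 1, 4, 2) ∧ exR 35 = (1, 0, 1, 1) ∧ exR 31 = (0, 1, 2, 1) ∧
    exR 40 = (1, 1, 3, 2) ∧ exR 46 = (2, 1, 4, 3) ∧ exR 37 = (1, 0, 2, 1) ∧ exR 32 = (0, 1, 2, 2) ∧
    exR 27 = (0, 0, 1, 0) ∧ exR 25 = (0, 0, 0, 1) ∧ exR 28 = (0, 0, 1, 1) ∧ exR 30 = (0, 0, 2, 1) := by
  refine ⟨?_, ?_, ?_, ?_, ?_, ?_, ?_, ?_, ?_, ?_, ?_, ?_, ?_, ?_, ?_, ?_, ?_, ?_, ?_, ?_, ?_, ?_, ?_, ?_⟩ <;>
    decide +kernel

theorem hT_conj (k : Kˣ × Kˣ) (a : OU K) : hT k * uh a * (hT k)⁻¹ = uh (torA k a) := by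
  rw [uh_apply, (isH_hT k).conj_word (by simp [wd, show chevF4.nroots = 48 from rfl]), uh_apply]
  congr 1
  simp only [wd, List.map_cons, List.map_nil, chi_mon, exR_tab]
  simp only [mon, torA_apply, tor_x1, tor_y2, tor_x2, tor_x3, tor_y4,
    tor_x4, tor_x5, tor_y6, tor_x6, tor_x7, tor_y8, tor_x8, map_mul, map_pow, σσ, List.cons.injEq, Prod.mk.injEq,
    true_and, and_true, zpow_ofNat, Units.val_mul, Units.val_pow_eq_pow_val, coe_σu]
  refine ⟨?_, ?_, ?_, ?_, ?_, ?_, ?_, ?_, ?_, ?_, ?_, ?_, ?_, ?_, ?_, ?_, ?_, ?_, ?_, ?_, ?_, ?_, ?_, ?_⟩ <;> ring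

end Cfsg.Agent.OCT
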