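import Cfsg.Agent.OCT.ModB

/-! The torus relations and the rank one relations in the large Ree group. -/

set_option autoImplicit false
set_option linter.unusedSectionVars false

namespace Cfsg.Agent.OCT

open Cfsg.Lie Cfsg.Agent.H37 Cfsg.Agent.H37.Chev Cfsg.Agent.H40 OU

variable {K : Type*} [Field K] [Tits K]

theorem modC_wt {a : K} (h : a ^ 3 * σ a ^ 2 = 1) : a = 1 := by
  have h1 := congrArg σ h
  simp only [map_mul, map_pow, σσ, map_one] at h1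
  have h2 : a * (σ a ^ 3 * (a ^ 2) ^ 2) ^ 2 = (a ^ 3 * σ a ^ 2) ^ 3 := by ring
  rwa [h, h1, one_pow, one_pow, mul_one] at h2

theorem uh_X1 (t : K) : uh (X1 t) = g2 t (σ t) := by simp [uh_apply, wd, g2, gword, x0]

theorem uh_E8 {a : OU K} (ha : a ∈ (sU8 : Subgroup (OU K))) :
    uh a = g4 a.y8 (σ a.y8) (a.y8 * σ a.y8 + a.x8) (σ a.x8) := by
  obtain ⟨h0, h1, h2, h3, h4, h5, h6, h7, h8, h9⟩ := ha
  simp [uh_apply, wd, g4, w4, gword, x0, h0, h1, h2, h3, h4, h5, h6, h7, h8, h9]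

variable {e : ℕ} (θ : Th K 2 e) (hσ : ∀ t : K, σ t = θ.ψ t)
include hσ

theorem uh_X1_pr (t : K) : uh (X1 t) = pr θ (σ t) := by rw [uh_X1, pr, hσ, θ.φψ]

theorem uh_E8_su {a : OU K} (ha : a ∈ (sU8 : Subgroup (OU K))) : uh a = su θ (σ a.y8) a.x8 := by
  rw [uh_E8 ha, su, hσ, θ.φψ, hσ]

theorem pr_eq_uh (t : K) : pr θ t = uh (X1 (θ.φ t)) := by rw [uh_X1_pr θ hσ, hσ, θ.ψφ]

theorem su_eq_uh (t r : K) : su θ t r = uh (E8 (θ.φ t) r) := by
  rw [uh_E8_su θ hσ (by simp)]; simp [hσ, θ.ψφ]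

theorem uh_mem_Fix (a : OU K) : uh a ∈ (TF θ).mt.Fix := by
  have hn : ∀ b ∈ (sQ : Subgroup (OU K)), uh b ∈ (TF θ).mt.Fix → uh (nu b) ∈ (TF θ).mt.Fix := fun b hb h =>
    nN_conj b hb ▸ mul_mem (mul_mem ((TF θ).mt.n_mem_Fix 1) h) ((TF θ).mt.n_mem_Fix 1)
  have hm : ∀ b : OU K, b.x1 = 0 → uh b ∈ (TF θ).mt.Fix → uh (mu b) ∈ (TF θ).mt.Fix := fun b hb h =>
    mM_conj b hb ▸ mul_mem (mul_mem ((TF θ).mt.n_mem_Fix 0) h) ((TF θ).mt.n_mem_Fix 0)
  have h1 : ∀ t : K, uh (X1 t) ∈ (TF θ).mt.Fix := fun t => uh_X1_pr θ hσ t ▸ pr_mem_Fix θ _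
  have y8 : ∀ t : K, uh (Y8 t) ∈ (TF θ).mt.Fix := fun t => uh_E8_su θ hσ (a := Y8 t) (by simp) ▸ su_mem_Fix θ _ _
  have x8 : ∀ t : K, uh (X8 t) ∈ (TF θ).mt.Fix := fun t => uh_E8_su θ hσ (a := X8 t) (by simp) ▸ su_mem_Fix θ _ _
  have y2 : ∀ t : K, uh (Y2 t) ∈ (TF θ).mt.Fix := fun t => by
    convert hm _ rfl (y8 t) using 2; ext <;> simp
  have x2 : ∀ t : K, uh (X2 t) ∈ (TF θ).mt.Fix := fun t => by
    convert hm _ rfl (x8 t) using 2; ext <;> simp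
  have x7 : ∀ t : K, uh (X7 t) ∈ (TF θ).mt.Fix := fun t => by
    convert hn _ (by simp) (h1 t) using 2; ext <;> simp
  have y6 : ∀ t : K, uh (Y6 t) ∈ (TF θ).mt.Fix := fun t => by
    convert hn _ (by simp) (y2 t) using 2; ext <;> simp
  have x6 : ∀ t : K, uh (X6 t) ∈ (TF θ).mt.Fix := fun t => by
    convert hn _ (by simp) (x2 t) using 2; ext <;> simp
  have x3 : ∀ t : K, uh (X3 t) ∈ (TF θ).mt.Fix := fun t => by
    convert hm _ rfl (x7 t) using 2; ext <;> simp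
  have y4 : ∀ t : K, uh (Y4 t) ∈ (TF θ).mt.Fix := fun t => by
    convert hm _ rfl (y6 t) using 2; ext <;> simp
  have x4 : ∀ t : K, uh (X4 t) ∈ (TF θ).mt.Fix := fun t => by
    convert hm _ rfl (x6 t) using 2; ext <;> simp
  have x5 : ∀ t : K, uh (X5 t) ∈ (TF θ).mt.Fix := fun t => by
    convert hn _ (by simp) (x3 t) using 2; ext <;> simp
  rw [nf a]
  simp only [map_mul]
  exact mul_mem (h1 _) (mul_mem (y2 _) (mul_mem (x2 _) (mul_mem (x3 _) (mul_mem (y4 _) (mul_mem (x4 _)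
    (mul_mem (x5 _) (mul_mem (y6 _) (mul_mem (x6 _) (mul_mem (x7 _) (mul_mem (y8 _) (x8 _)))))))))))

theorem hT_eq_fh (k : Kˣ × Kˣ) : hT k = fh θ (mon k (exT 3), mon k (exT 2)) := by
  refine ((isH_hT k).congr fun i hi => ?_).uniq (matRel_adj _ _) (isH_fh θ _)
  have h1 : ∀ t : K, θ.φ (σ t) = t := fun t => by rw [hσ, θ.φψ]
  have h2 : ∀ t : K, σ t = θ.φ t ^ 2 := fun t => by rw [hσ, θ.ψ_def]
  obtain rfl | rfl | rfl | rfl := lt_four hi
  · ext
    simp only [fc, mon, exT, List.getD_cons_succ, List.getD_cons_zero, zpow_ofNat, if_true, Units.coe_map,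
      MonoidHom.coe_coe, Units.val_mul, Units.val_pow_eq_pow_val, coe_σu, map_mul, map_pow, h1]
    rw [h2, h2]; ring
  · ext
    simp only [fc, mon, exT, List.getD_cons_succ, List.getD_cons_zero, zpow_ofNat, if_true, Units.coe_map,
      MonoidHom.coe_coe, Units.val_mul, Units.val_pow_eq_pow_val, coe_σu, map_mul, map_pow, h1, one_ne_zero, if_false]
    rw [h2, h2]; ring
  · rfl
  · rfl

theorem hT_mem_Fix (k : Kˣ × Kˣ) : hT k ∈ (TF θ).mt.Fix := hT_eq_fh θ hσ k ▸ fh_mem_Fix θ _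

omit hσ in
theorem hT_act {k : Kˣ × Kˣ} {a b : OU K} (h : hT k * uh a * (hT k)⁻¹ = uh b) : tor (k.1 : K) (k.2 : K) a = b :=
  uh_inj ((hT_conj k a).symm.trans h)

theorem exists_hT [Finite K] {h : GL chevF4.Idx K} (hh : h ∈ (TF θ).mt.H) (hf : h ∈ (TF θ).mt.Fix) :
    ∃ k, h = hT k := by
  obtain ⟨l, rfl⟩ := exists_fh θ hh hf
  have hi : Function.Injective fun k : Kˣ × Kˣ => (mon k (exT 3), mon k (exT 2)) := fun k k' e => by
    have e1 : hT k = hT k' := by rw [hT_eq_fh θ hσ, hT_eq_fh θ hσ]; exact congrArg _ e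
    have h1 := congrArg OU.x1 (hT_act (k := k) (e1 ▸ hT_conj k' (X1 1)))
    have h2 := congrArg OU.y8 (hT_act (k := k) (e1 ▸ hT_conj k' (Y8 1)))
    exact Prod.ext (Units.ext (by simpa using h1)) (Units.ext (by simpa using h2))
  obtain ⟨k, rfl⟩ := Finite.surjective_of_injective hi l
  exact ⟨k, (hT_eq_fh θ hσ k).symm⟩

theorem exists_hT_conj [Finite K] (j : Fin 2) (k : Kˣ × Kˣ) :
    ∃ k', (TF θ).mt.n j * hT k * ((TF θ).mt.n j)⁻¹ = hT k' :=
  exists_hT θ hσ ((TF θ).mt.H_conj ((TF θ).mt.n_mem j) (isH_hT k).1)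
    (mul_mem (mul_mem ((TF θ).mt.n_mem_Fix j) (hT_mem_Fix θ hσ k)) (inv_mem ((TF θ).mt.n_mem_Fix j)))

theorem nN_hT [Finite K] (α β : Kˣ) : nN K * hT (α, β) * nN K = hT (α * (β ^ 2 * σu β), β⁻¹) := by
  obtain ⟨⟨α', β'⟩, h⟩ := exists_hT_conj θ hσ 1 (α, β)
  change nN K * _ * (nN K)⁻¹ = _ at h
  rw [inv_eq_of_mul_eq_one_right nN_sq] at h
  have key : ∀ a ∈ (sQ : Subgroup (OU K)), tor (α' : K) (β' : K) a = nu (tor (α : K) (β : K) (nu a)) := by
    intro a ha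
    refine hT_act (k := (α', β')) ?_
    rw [← nN_conj _ (by simp), ← torA_apply (α, β), ← hT_conj, ← nN_conj _ ha, ← h, mul_inv_rev, mul_inv_rev,
      inv_eq_of_mul_eq_one_right nN_sq]
    group
  have h1 := congrArg OU.x1 (key (X1 1) (by simp))
  have h2 := congrArg OU.x7 (key (X7 1) (by simp))
  simp only [tor_x1, tor_x7, nu_x1, nu_x7, X1_x1, X7_x7, mul_one] at h1 h2
  have h3 : (β' : K) = ((β⁻¹ : Kˣ) : K) := by
    refine nrm2_inj ?_
    have := α.ne_zero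
    have := β.ne_zero
    have : σ (β : K) ≠ 0 := by simp
    rw [h1] at h2
    simp only [Units.val_inv_eq_inv_val, map_inv₀]
    field_simp
    field_simp at h2
    linear_combination h2
  rw [h]
  congr 2
  · ext; simp [h1, mul_assoc]
  · exact Units.ext h3

theorem mM_hT [Finite K] (α β : Kˣ) : mM K * hT (α, β) * mM K = hT (α⁻¹, α * β) := by
  obtain ⟨⟨α', β'⟩, h⟩ := exists_hT_conj θ hσ 0 (α, β)
  change mM K * _ * (mM K)⁻¹ = _ at h
  rw [inv_eq_of_mul_eq_one_right mM_sq] at h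
  have key : ∀ a : OU K, a.x1 = 0 → tor (α' : K) (β' : K) a = mu (tor (α : K) (β : K) (mu a)) := by
    intro a ha
    refine hT_act (k := (α', β')) ?_
    rw [← mM_conj _ (by simp), ← torA_apply (α, β), ← hT_conj, ← mM_conj _ ha, ← h, mul_inv_rev, mul_inv_rev,
      inv_eq_of_mul_eq_one_right mM_sq]
    group
  have h1 := congrArg OU.y8 (key (Y8 1) (by simp))
  have h2 := congrArg OU.y2 (key (Y2 1) (by simp))
  simp only [tor_y8, tor_y2, mu_y8, mu_y2, Y8_y8, Y2_y2, mul_one] at h1 h2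
  rw [h]
  congr 2
  · ext
    have := α.ne_zero
    have := β.ne_zero
    rw [h1] at h2
    simp only [Units.val_inv_eq_inv_val]
    field_simp
    field_simp at h2
    linear_combination h2
  · ext; simp [h1]

omit hσ in
theorem sl_word (t : Kˣ) : uh (X1 (t : K)) * (mM K * uh (X1 ((t⁻¹ : Kˣ) : K)) * mM K) * uh (X1 (t : K)) =
    (SF K).n 33 t * (SF K).n 24 (σ (t : K)) := by
  have h1 := nw_conj_word (K := K) (L := [0, 3]) (w := [(33, ((t⁻¹ : Kˣ) : K)), (24, σ ((t⁻¹ : Kˣ) : K))]) (by decide)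
    (show ∀ r ∈ [33, 24], r < 48 by decide)
  have h2 : wact chevF4 [0, 3] 33 = 14 ∧ wact chevF4 [0, 3] 24 = 23 ∧ chevF4.neg 33 = 14 ∧ chevF4.neg 24 = 23 := by
    decide +kernel
  nth_rewrite 2 [← inv_eq_of_mul_eq_one_right mM_sq]
  rw [uh_X1, uh_X1, g2, g2, mM, h1, n_def, n_def]
  have c1 : ∀ a b : K, (SF K).x 24 b * (SF K).x 14 a = (SF K).x 14 a * (SF K).x 24 b :=
    fun a b => x_commute _ (by decide) (by decide) (by decide) (by decide +kernel) (by decide +kernel) _ _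
  have c2 : ∀ a b : K, (SF K).x 23 b * (SF K).x 33 a = (SF K).x 33 a * (SF K).x 23 b :=
    fun a b => x_commute _ (by decide) (by decide) (by decide) (by decide +kernel) (by decide +kernel) _ _
  simp only [List.map_cons, List.map_nil, gword_cons, gword_nil, h2, mul_one, CharTwo.neg_eq,
    Units.val_inv_eq_inv_val, map_inv₀, mul_assoc]
  rw [← mul_assoc ((SF K).x 24 _), c1, ← mul_assoc ((SF K).x 23 _), c2, mul_assoc, mul_assoc,
    ← mul_assoc ((SF K).x 24 _), x33_24, mul_assoc]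

theorem sl_model [Finite K] (t : Kˣ) :
    uh (X1 (t : K)) * (mM K * uh (X1 ((t⁻¹ : Kˣ) : K)) * mM K) * uh (X1 (t : K)) = hT (t ^ 2, t⁻¹) * mM K := by
  have hm : mM K = (SF K).n 33 1 * (SF K).n 24 1 := by
    have h1 := n0_eq θ
    have h2 := sl_word (K := K) 1
    rw [pr_eq_uh θ hσ, map_one] at h1
    change mM K = _ * (mM K * _ * (mM K)⁻¹) * _ at h1
    rw [inv_eq_of_mul_eq_one_right mM_sq] at h1
    simpa [← h1] using h2
  have hN : ∀ a b : K, a ≠ 0 → b ≠ 0 → (SF K).n 33 a * (SF K).n 24 b ∈ (SF K).N := fun a b ha hb =>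
    mul_mem (n_mem_N _ (by decide) ha) (n_mem_N _ (by decide) hb)
  have hw : ∀ a b : K, a ≠ 0 → b ≠ 0 → wN (SF K) ((SF K).n 33 a * (SF K).n 24 b) =
      reflP chevF4 ⟨33, by decide⟩ * reflP chevF4 ⟨24, by decide⟩ := fun a b ha hb => by
    rw [wN_mul (matRel_sep _ _) (n_mem_N _ (by decide) ha) (n_mem_N _ (by decide) hb),
      wN_n (matRel_sep _ _) ⟨33, by decide⟩ ha, wN_n (matRel_sep _ _) ⟨24, by decide⟩ hb]
  have ht : σ (t : K) ≠ 0 := by simp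
  have hmf : mM K ∈ (TF θ).mt.Fix := (TF θ).mt.n_mem_Fix 0
  set L := uh (X1 (t : K)) * (mM K * uh (X1 ((t⁻¹ : Kˣ) : K)) * mM K) * uh (X1 (t : K)) with hL
  have hH : L * (mM K)⁻¹ ∈ (TF θ).mt.H := by
    rw [hL, sl_word]
    have a1 := hN _ _ t.ne_zero ht
    have a2 := hN _ _ one_ne_zero one_ne_zero
    rw [hm, ← (TF θ).mt.w_eq_one _ (mul_mem a1 (inv_mem a2)), (TF θ).mt.w_mul _ a1 _ (inv_mem a2),
      (TF θ).mt.w_inv a2, TwD.mt_w, TwD.mt_w, hw _ _ t.ne_zero ht, hw _ _ one_ne_zero one_ne_zero, mul_inv_cancel]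
  obtain ⟨⟨α, β⟩, h⟩ := exists_hT θ hσ hH (mul_mem (mul_mem (mul_mem (uh_mem_Fix θ hσ _)
    (mul_mem (mul_mem hmf (uh_mem_Fix θ hσ _)) hmf)) (uh_mem_Fix θ hσ _)) (inv_mem hmf))
  have mi := inv_eq_of_mul_eq_one_right (mM_sq (K := K))
  have cm : ∀ a b : K, mM K * uh (EY a b) * mM K = uh (EY b a) := fun a b => by
    rw [mM_conj _ rfl]; congr 1; ext <;> simp
  have cx : ∀ r a b : K, uh (X1 r) * uh (EY a b) * (uh (X1 r))⁻¹ = uh (EY (a + r * b) b) := fun r a b => by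
    rw [mul_inv_eq_iff_eq_mul, ← map_mul, ← map_mul]; congr 1; ext <;> simp [mul_comm, add_assoc, CharTwo.add_self_eq_zero]
  have key : ∀ a b : K, tor (α : K) (β : K) (EY a b) = EY (t * a) ((t⁻¹ : Kˣ) * b) := fun a b => by
    refine hT_act (k := (α, β)) ?_
    have e1 : EY (t * a) ((t⁻¹ : Kˣ) * b) = EY (b + t * a + t * (a + (t⁻¹ : Kˣ) * (b + t * a)))
        (a + (t⁻¹ : Kˣ) * (b + t * a)) := by
      have := t.ne_zero
      congr 1 <;> simp only [Units.val_inv_eq_inv_val] <;> field_simp <;> grind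
    rw [e1, ← cx, ← cm (a + _), ← cx, ← cm (b + _), ← cx, ← cm a b, ← h, hL]
    simp only [mul_inv_rev, mi, mul_assoc]
  have h1 := congrArg OU.x4 (key 1 1)
  have h2 := congrArg OU.x6 (key 1 1)
  simp only [tor_x4, tor_x6, EY_x4, EY_x6, mul_one, Units.val_inv_eq_inv_val] at h1 h2
  have t0 := t.ne_zero
  have h3 : (α : K) = t ^ 2 := by
    have : (α : K) * (t : K)⁻¹ = t := by rw [← h2, ← h1]; ring
    field_simp at this
    exact this
  have h4 : (β : K) * t = 1 := by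
    refine modC_wt ?_
    rw [h3] at h2
    simp only [map_pow, map_mul] at h2 ⊢
    field_simp at h2
    linear_combination h2
  rw [← mul_inv_eq_iff_eq_mul, h]
  congr 2
  · ext; simp [h3]
  · ext; simp [eq_inv_of_mul_eq_one_left h4]

end Cfsg.Agent.OCT
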