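import Cfsg.Agent.OCT.ModC

/-! The large Ree group satisfies the relations `FR` and is generated by the given elements. -/

set_option autoImplicit false
set_option linter.unusedSectionVars false

namespace Cfsg.Agent.OCT

open OU

universe u v

section
open Cfsg.Lie Cfsg.Agent.H37 Cfsg.Agent.H37.Chev Cfsg.Agent.H40

variable {K : Type*} [Field K] [Tits K]

/-- the word of the reflection that commutes with `n` -/
def muL : List ℕ := [0, 3, 1, 2, 1, 2, 0, 3, 1, 2, 1, 2, 0, 3, 1, 2, 1, 2, 0, 3]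

theorem muL_n : nw (SF K) muL * nN K * (nw (SF K) muL)⁻¹ = nN K := by
  rw [mul_inv_eq_iff_eq_mul, nN, ← nw_append, ← nw_append]
  exact nw_eq_of_check (by decide +kernel)

theorem muL_u {a : OU K} (ha : a ∈ (sU8 : Subgroup (OU K))) :
    nw (SF K) muL * uh a * (nw (SF K) muL)⁻¹ = uh a := by
  have h : wact chevF4 muL 27 = 27 ∧ wact chevF4 muL 25 = 25 ∧ wact chevF4 muL 28 = 28 ∧
    wact chevF4 muL 30 = 30 := by decide +kernel
  rw [uh_E8 ha, g4, nw_conj_word (w := w4 _ _ _ _) (by decide) (show ∀ r ∈ [27, 25, 28, 30], r < 48 by decide)]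
  simp only [w4, List.map_cons, List.map_nil, h]

theorem dk_of_wt {α β : Kˣ} (h : (α : K) ^ 2 * σ (α : K) * (β : K) ^ 3 * σ (β : K) ^ 2 = 1) :
    (α, β) = dk (α * (σu α)⁻¹) := by
  have h0 := α.ne_zero
  have h1 : σ (α : K) ≠ 0 := by simp
  have h2 : (β : K) * (α : K) ^ 2 * (σ (α : K))⁻¹ = 1 := by
    refine modC_wt ?_
    simp only [map_mul, map_pow, map_inv₀, σσ]
    field_simp
    linear_combination h
  rw [dk_apply]
  ext
  · simp only [σu_mul, σu_inv, σu_σu, Units.val_inv_eq_inv_val, Units.val_mul, coe_σu, Units.val_pow_eq_pow_val]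
    field_simp
  · simp only [σu_mul, σu_inv, σu_σu, Units.val_inv_eq_inv_val, Units.val_mul, coe_σu, Units.val_pow_eq_pow_val]
    field_simp
    field_simp at h2
    linear_combination h2

variable {e : ℕ} (θ : Th K 2 e) (hσ : ∀ t : K, σ t = θ.ψ t)
include hσ

theorem exists_E8 {g : GL chevF4.Idx K} (hg : g ∈ (TF θ).mt.XJ 1) (hf : g ∈ (TF θ).mt.Fix) :
    ∃ a ∈ (sU8 : Subgroup (OU K)), g = uh a := by
  obtain ⟨t, r, rfl⟩ := exists_su θ hg hf
  exact ⟨_, by simp, su_eq_uh θ hσ t r⟩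

theorem bru_model [Finite K] (a : OU K) (ha : a ∈ (sU8 : Subgroup (OU K))) (h1 : a ≠ 1) :
    ∃ a₁ ∈ (sU8 : Subgroup (OU K)), ∃ s, ∃ a₂ ∈ (sU8 : Subgroup (OU K)),
      nN K * uh a * nN K = uh a₁ * hT (dk s) * nN K * uh a₂ := by
  have hx : uh a ∈ (TF θ).mt.XJ 1 := uh_E8 ha ▸ g4_mem_XJ θ _ _ _ _
  have ni := inv_eq_of_mul_eq_one_right (nN_sq (K := K))
  obtain ⟨u, hu, huf, k, hk, hkf, hkH, u', hu', huf', e⟩ := (TF θ).mt.rank_one hx (uh_mem_Fix θ hσ a)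
  have hV := (TF θ).mt.n_conj_XJ hx
  have hB : ∀ {x y}, x ∈ (TF θ).mt.U → y ∈ (TF θ).mt.H → x * y ∈ (TF θ).mt.U ⊔ (TF θ).mt.H := fun hx hy =>
    mul_mem (Subgroup.mem_sup_left hx) (Subgroup.mem_sup_right hy)
  rcases hkH with hkH | hkH
  · have := (TF θ).mt.B_inf_V (e ▸ mul_mem (hB hu hkH) (Subgroup.mem_sup_left ((TF θ).mt.XJ_le 1 hu'))) hV
    exact absurd (uh_inj ((conj_eq_one_iff.1 this).trans (map_one uh).symm)) h1
  obtain ⟨⟨α, β⟩, hk0⟩ := exists_hT θ hσ hkH (mul_mem hkf ((TF θ).mt.n_mem_Fix 1))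
  obtain ⟨y, hy, -, x, hx1, hxf, rfl⟩ := (TF θ).mt.U_decomp_fix 1 hu huf
  obtain ⟨a₁, ha₁, rfl⟩ := exists_E8 θ hσ hx1 hxf
  obtain ⟨a₂, ha₂, rfl⟩ := exists_E8 θ hσ hu' huf'
  change k * nN K = _ at hk0
  change nN K * _ * (nN K)⁻¹ = _ at e
  obtain rfl : k = hT (α, β) * nN K := by rw [← hk0, mul_assoc, nN_sq, mul_one]
  rw [ni] at e
  set μ := nw (SF K) muL with hμ
  have hμN : μ ∈ (TF θ).mt.N := nw_mem _ (by decide)
  have hyV : μ * y * μ⁻¹ ∈ (TF θ).mt.V := by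
    refine (TF θ).mt.conj_XS hμN (fun r hr => ?_) hy
    have h2 : ∀ r < 48, 24 ≤ r → ¬ inJ chevF4 [1, 2] r → ¬ 24 ≤ wact chevF4 muL r := by decide +kernel
    have h3 := h2 r r.2 hr.1 hr.2
    rw [← wN_nw (matRel_sep isChev_F4 K) (by decide)] at h3
    exact h3
  have hη := (TF θ).mt.H_conj hμN (isH_hT (α, β)).1
  have e2 : μ * y * μ⁻¹ = (y * uh a₁ * hT (α, β)) * (uh a₁ * (μ * hT (α, β) * μ⁻¹))⁻¹ := by
    have e3 : μ * (nN K * uh a * nN K) * μ⁻¹ = nN K * uh a * nN K := by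
      conv_rhs => rw [← muL_n, ← muL_u ha, ← hμ]
      group
    have e4 : μ * (y * uh a₁ * (hT (α, β) * nN K) * uh a₂) * μ⁻¹ =
        μ * y * μ⁻¹ * uh a₁ * (μ * hT (α, β) * μ⁻¹) * nN K * uh a₂ := by
      conv_rhs => rw [← muL_n, ← muL_u ha₁, ← muL_u ha₂, ← hμ]
      group
    rw [e, e4] at e3
    rw [eq_mul_inv_iff_mul_eq]
    refine mul_right_cancel (b := nN K * uh a₂) ?_
    simpa only [mul_assoc] using e3
  have hU1 := (TF θ).mt.XJ_le 1 hx1
  have hy1 : y = 1 := conj_eq_one_iff.1 ((TF θ).mt.B_inf_V (e2 ▸ mul_mem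
    (hB (mul_mem ((TF θ).mt.Up_le 1 hy) hU1) (isH_hT _).1) (inv_mem (hB hU1 hη))) hyV)
  rw [hy1, one_mul, ← mul_assoc] at e
  have hc : ∀ b : OU K, Commute (uh b) (uh (X4 1)) := fun b => by
    refine Commute.map ?_ uh
    change b * _ = _ * b
    ext <;> simp [add_comm]
  have hn : Commute (nN K) (uh (X4 1)) := by
    have := nN_conj (K := K) (X4 1) (by simp)
    rw [show nu (X4 (1 : K)) = X4 1 by ext <;> simp] at this
    rw [Commute, SemiconjBy, ← mul_inv_eq_iff_eq_mul, ni, this]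
  have hh : Commute (hT (α, β)) (uh (X4 1)) := by
    have e5 : hT (α, β) = (uh a₁)⁻¹ * (nN K * uh a * nN K) * (uh a₂)⁻¹ * (nN K)⁻¹ := by rw [e]; group
    rw [e5]
    exact (((hc _).inv_left.mul_left ((hn.mul_left (hc _)).mul_left hn)).mul_left (hc _).inv_left).mul_left
      hn.inv_left
  have h4 := congrArg OU.x4 (hT_act (k := (α, β)) (mul_inv_eq_iff_eq_mul.2 hh.eq))
  simp only [tor_x4, X4_x4, mul_one] at h4
  exact ⟨a₁, ha₁, _, a₂, ha₂, dk_of_wt h4 ▸ e⟩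

/-- the relations in the matrix group -/
noncomputable def frGL [Finite K] : FR K (GL chevF4.Idx K) where
  u := uh
  n := nN K
  d := hT.comp dk
  inj := uh_inj
  nn := nN_sq
  nu := nN_conj
  du s a := (hT_conj _ a).trans (congrArg _ (torA_dk s a))
  nd s := by
    rw [MonoidHom.comp_apply, dk_apply, nN_hT θ hσ, ← map_inv]
    congr 1
    have h1 := s.ne_zero
    have h2 : σ (s : K) ≠ 0 := by simp
    ext
    · simp; field_simp
    · simp
  bru := bru_model θ hσ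
  h := hT
  hu := hT_conj
  hd _ := rfl
  nh := nN_hT θ hσ
  m := mM K
  mm := mM_sq
  mu := mM_conj
  mh := mM_hT θ hσ
  sl := sl_model θ hσ
  rel := mn_pow

theorem frGL_gen [Finite K] : (frGL θ hσ).toFR0.gen = twistedF4 K e := by
  refine le_antisymm ?_ ?_
  · rw [← Fix_F4 θ]
    refine sup_le (sup_le (CR.C_le _ (uh_mem_Fix θ hσ) (fun s => hT_mem_Fix θ hσ _) ((TF θ).mt.n_mem_Fix 1)) ?_)
      (Subgroup.zpowers_le.2 ((TF θ).mt.n_mem_Fix 0))
    rintro _ ⟨k, rfl⟩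
    exact hT_mem_Fix θ hσ k
  · have hC : (frGL θ hσ).toCR.C ≤ (frGL θ hσ).toFR0.gen := le_sup_left.trans le_sup_left
    rw [← G0_F4 θ]
    refine (TF θ).mt.G0_le_of_gen (fun j => ?_) (XJ_ind_F4 θ (fun t => ?_) fun t r => ?_)
    · fin_cases j
      · exact Subgroup.mem_sup_right (Subgroup.mem_zpowers _)
      · exact hC (CR.n_mem _)
    · rw [pr_eq_uh θ hσ]; exact hC (CR.u_mem (frGL θ hσ).toCR _)
    · rw [su_eq_uh θ hσ]; exact hC (CR.u_mem (frGL θ hσ).toCR _)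

end

section res
variable {K : Type*} [Field K] [Tits K] {G : Type*} [Group G]

theorem FR0.modC_le (f : FR0 K G) : f.toCR.C ≤ f.gen := le_sup_left.trans le_sup_left
theorem FR0.modh_mem (f : FR0 K G) (k : Kˣ × Kˣ) : f.h k ∈ f.gen :=
  Subgroup.mem_sup_left (Subgroup.mem_sup_right ⟨k, rfl⟩)
theorem FR0.modm_mem (f : FR0 K G) : f.m ∈ f.gen := Subgroup.mem_sup_right (Subgroup.mem_zpowers _)

/-- restriction to a subgroup -/
def FR.modres (f : FR K G) (H : Subgroup G) (hH : f.toFR0.gen ≤ H) : FR K H where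
  toCR := f.toCR.res H (f.toFR0.modC_le.trans hH)
  h := f.h.codRestrict H fun k => hH (f.toFR0.modh_mem k)
  hu k a := Subtype.ext (f.hu k a)
  hd s := Subtype.ext (f.hd s)
  nh α β := Subtype.ext (f.nh α β)
  m := ⟨f.m, hH f.toFR0.modm_mem⟩
  mm := Subtype.ext f.mm
  mu a ha := Subtype.ext (f.mu a ha)
  mh α β := Subtype.ext (f.mh α β)
  sl t := Subtype.ext (f.sl t)
  rel := Subtype.ext f.rel

theorem FR.modres_gen (f : FR K G) (H : Subgroup G) (hH : f.toFR0.gen ≤ H) :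
    (f.modres H hH).toFR0.gen.map H.subtype = f.toFR0.gen := by
  rw [FR0.gen, Subgroup.map_sup, Subgroup.map_sup, MonoidHom.map_zpowers, ← MonoidHom.range_comp]
  exact congrArg₂ _ (congrArg₂ _ (CR.res_C_map _ _ (f.toFR0.modC_le.trans hH)) rfl) rfl

end res

theorem model {K : Type u} [Field K] [Fintype K] {m : ℕ} (hK : Fintype.card K = 2 ^ (2 * m + 1)) :
    ∃ (_ : Tits K) (f : FR K (Cfsg.Lie.twistedF4 K (2 ^ m))), f.toFR0.gen = ⊤ := by
  let θ := H40.mkTh Nat.prime_two hK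
  letI : Tits K := ⟨θ.ψ, θ.ψψ⟩
  have h := frGL_gen θ fun _ => rfl
  refine ⟨inferInstance, (frGL θ fun _ => rfl).modres _ h.le, ?_⟩
  refine Subgroup.map_injective (Subgroup.subtype_injective _) ?_
  rw [FR.modres_gen, h, ← MonoidHom.range_eq_map, Subgroup.range_subtype]

end Cfsg.Agent.OCT
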