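import Cfsg.Agent.OCT.Rig
import Cfsg.Agent.OCT.Chase

/-! Construction of the second fundamental reflection `m`.  See `notes/OCT.md`, section Nn. -/

set_option autoImplicit false
set_option linter.unusedSectionVars false

namespace Cfsg.Agent.OCT

open OU

universe u v w

variable {K : Type u} [Field K] [Tits K] {G : Type v} [Group G]

theorem nn_cancel {w x : K} (hw : w ≠ 1) (h : w * x = x) : x = 0 := by
  by_contra hx
  exact hw (mul_right_cancel₀ hx (h.trans (one_mul x).symm))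

/-- `h(1, β)` has no fixed points on `T`. -/
theorem nn_fix {β : K} (hβ : β ≠ 1) {a : OU K} (ha : a.x1 = 0) (h : tor 1 β a = a) : a = 1 := by
  have w1 : β * σ β ≠ 1 := fun e => hβ (nrm_inj (by simpa using e))
  have w2 : β ^ 2 * σ β ≠ 1 := fun e => hβ (nrm2_inj (by simpa using e))
  have w3 : β ^ 2 * σ β ^ 2 ≠ 1 := fun e => w1 (by
    have : (β * σ β + 1) ^ 2 = 0 := by grind
    have := pow_eq_zero_iff two_ne_zero |>.1 this
    grind)
  have w4 : β ^ 3 * σ β ^ 2 ≠ 1 := fun e => w1 (by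
    have h1 := congrArg σ e
    simp only [map_mul, map_pow, σσ, map_one] at h1
    linear_combination h1 - β * σ β * e)
  ext
  · simpa using ha
  · exact nn_cancel hβ (by simpa using congrArg OU.y2 h)
  · exact nn_cancel w1 (by simpa using congrArg OU.x2 h)
  · exact nn_cancel w2 (by simpa using congrArg OU.x3 h)
  · exact nn_cancel w1 (by simpa using congrArg OU.y4 h)
  · exact nn_cancel w4 (by simpa using congrArg OU.x4 h)
  · exact nn_cancel w3 (by simpa using congrArg OU.x5 h)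
  · exact nn_cancel w1 (by simpa using congrArg OU.y6 h)
  · exact nn_cancel w4 (by simpa using congrArg OU.x6 h)
  · exact nn_cancel w2 (by simpa using congrArg OU.x7 h)
  · exact nn_cancel hβ (by simpa using congrArg OU.y8 h)
  · exact nn_cancel w1 (by simpa using congrArg OU.x8 h)

/-- the map `b ↦ b φ(b)⁻¹` is onto `T` -/
theorem nn_surj [Finite K] {β : K} (hβ : β ≠ 1) {a : OU K} (ha : a.x1 = 0) :
    ∃ b : OU K, b.x1 = 0 ∧ a * tor 1 β b = b := by
  let F : ↥(sT : Subgroup (OU K)) → ↥(sT : Subgroup (OU K)) := fun b =>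
    ⟨b.1 * (tor 1 β b.1)⁻¹, by have := mem_sT.1 b.2; simp [this]⟩
  have hF : Function.Injective F := fun b b' e => by
    have e1 : b.1 * (tor 1 β b.1)⁻¹ = b'.1 * (tor 1 β b'.1)⁻¹ := congrArg Subtype.val e
    have e2 : tor 1 β b'.1 * tor 1 β (b'.1⁻¹ * b.1) = tor 1 β b.1 := by
      rw [← tor_mul, mul_inv_cancel_left]
    have e3 : tor 1 β (b'.1⁻¹ * b.1) = b'.1⁻¹ * b.1 := by
      rw [← inv_mul_cancel_left (tor 1 β b'.1) (tor 1 β (b'.1⁻¹ * b.1)), e2]
      calc _ = b'.1⁻¹ * (b'.1 * (tor 1 β b'.1)⁻¹) * tor 1 β b.1 := by group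
        _ = _ := by rw [← e1]; group
    have := nn_fix hβ (mem_sT.1 (mul_mem (inv_mem b'.2) b.2)) e3
    exact Subtype.ext (inv_mul_eq_one.1 this).symm
  obtain ⟨b, hb⟩ := Finite.surjective_of_injective hF ⟨a, mem_sT.2 ha⟩
  have e : b.1 * (tor 1 β b.1)⁻¹ = a := congrArg Subtype.val hb
  exact ⟨b.1, mem_sT.1 b.2, by rw [← e, inv_mul_cancel_right]⟩

theorem nn_mu_tor (α β : Kˣ) (b : OU K) : mu (torA (α⁻¹, α * β) b) = torA (α, β) (mu b) := by
  have h1 := α.ne_zero
  have h2 : σ (α : K) ≠ 0 := by simp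
  ext <;> simp <;> first | exact Or.inl (by field_simp) | field_simp

theorem nn_comm_T {a : OU K} (ha : a.x1 = 0) (s t : K) : a * EY s t = EY s t * a := by
  ext <;> simp [ha, add_comm]

theorem nn_EY {y : OU K} (hy : y ∈ (sY : Subgroup (OU K))) : y = EY y.x4 y.x6 := by
  obtain ⟨h0, h1, h2, h3, h4, h5, h6, h7, h8, h9⟩ := hy
  ext <;> simp [*]

/-- `g` acts on `Y = K²` as `f` -/
def NnA (c : CR K G) (g : G) (f : K × K → K × K) : Prop :=
  ∀ y : K × K, g * c.u (EY y.1 y.2) * g⁻¹ = c.u (EY (f y).1 (f y).2)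

namespace NnA

variable {c : CR K G} {g g' : G} {f f' : K × K → K × K}

theorem mul (h : NnA c g f) (h' : NnA c g' f') : NnA c (g * g') (f ∘ f') := fun y => by
  rw [Function.comp_apply, ← h, ← h']; group

theorem congr (h : NnA c g f) (e : ∀ y, f y = f' y) : NnA c g f' := fun y => e y ▸ h y

theorem of_T {a : OU K} (ha : a.x1 = 0) : NnA c (c.u a) id := fun y => by
  rw [← map_mul, nn_comm_T ha, map_mul]; simp

theorem x1 (t : K) : NnA c (c.u (X1 t)) fun y => (y.1 + t * y.2, y.2) := fun y => by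
  rw [← map_inv, ← map_mul, ← map_mul]
  congr 1
  ext <;> simp [CharTwo.add_self_eq_zero, mul_comm]

variable [Finite K] [Finite G]

theorem mem_T (hy : Hy c) (h : NnA c g f) (h' : NnA c g' f) : g'⁻¹ * g ∈ c.S sT := by
  refine hy.cent_Y ?_
  rintro _ ⟨y, hy, rfl⟩
  rw [nn_EY hy]
  have e := (h (y.x4, y.x6)).trans (h' (y.x4, y.x6)).symm
  change g'⁻¹ * g * c.u (EY y.x4 y.x6) = c.u (EY y.x4 y.x6) * (g'⁻¹ * g)
  calc _ = g'⁻¹ * (g * c.u (EY y.x4 y.x6) * g⁻¹) * g := by group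
    _ = _ := by rw [e]; group

end NnA

theorem NnA.h (p : PR K G) (k : Kˣ × Kˣ) : NnA p.toCR (p.h k) fun y =>
    ((k.1 : K) ^ 2 * σ (k.1 : K) * (k.2 : K) ^ 3 * σ (k.2 : K) ^ 2 * y.1,
      (k.1 : K) * σ (k.1 : K) * (k.2 : K) ^ 3 * σ (k.2 : K) ^ 2 * y.2) := fun y => by
  rw [p.hu]
  congr 1
  ext <;> simp

variable [Finite K] [Finite G]

theorem NnA.eq {p : PR K G} (hy : Hy p.toCR) {β : Kˣ} (hβ : β ≠ 1) {g g' : G} {f : K × K → K × K}
    (h : NnA p.toCR g f) (h' : NnA p.toCR g' f) (e : Commute (p.h (1, β)) g)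
    (e' : Commute (p.h (1, β)) g') : g = g' := by
  obtain ⟨a, ha, ea⟩ := h.mem_T hy h'
  have e1 : Commute (p.h (1, β)) (p.u a) := ea ▸ e'.inv_right.mul_right e
  have e2 : tor 1 (β : K) a = a := p.inj (by
    have := p.hu (1, β) a
    rw [e1.eq, mul_inv_cancel_right] at this
    simpa using this.symm)
  have := nn_fix (fun e => hβ (Units.ext e)) (mem_sT.1 ha) e2
  rw [this, map_one] at ea
  exact (inv_mul_eq_one.1 ea.symm).symm

theorem nn_x9 (p : PR K G) {c' : CR K G} (l : Ln p.toCR c') {β : Kˣ} (hβ : β ≠ 1) :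
    ∃ x, NnA p.toCR x (fun y => (y.1, y.2 + y.1)) ∧ Commute (p.h (1, β)) x := by
  obtain ⟨v, -, hv⟩ := l.sur 1
  have av : NnA p.toCR v fun y => (y.1, y.2 + y.1) := fun y => by simpa using hv y.1 y.2
  have h1 := β.ne_zero
  have h2 : σ (β : K) ≠ 0 := by simp
  have aw : NnA p.toCR (p.h (1, β) * v * p.h (1, β)⁻¹) fun y => (y.1, y.2 + y.1) :=
    (((NnA.h p _).mul av).mul (NnA.h p _)).congr fun y => by
      ext <;> simp <;> field_simp
  obtain ⟨a, ha, ea⟩ := aw.mem_T l.hy av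
  obtain ⟨b, hb, eb⟩ := nn_surj (β := (β : K)) (fun e => hβ (Units.ext e)) (mem_sT.1 ha)
  refine ⟨v * p.u b, (av.mul (NnA.of_T hb)).congr fun _ => rfl, ?_⟩
  have e1 := p.hu (1, β) b
  have e2 : p.u a * p.u (torA (1, β) b) = p.u b := by rw [← map_mul]; simpa using congrArg p.u eb
  rw [map_inv] at ea
  change _ * _ = _ * _
  conv_rhs => rw [← e2, ea, ← e1]
  group

theorem PR.exists_m (p : PR K G) {c' : CR K G} (l : Ln p.toCR c') (hq : 2 < Nat.card K) :
    ∃ f : FR0 K G, f.toPR = p := by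
  obtain ⟨β, hβ⟩ : ∃ β : Kˣ, β ≠ 1 := by
    have : Nontrivial Kˣ := Finite.one_lt_card_iff_nontrivial.1 (by rw [Nat.card_units]; omega)
    exact exists_ne 1
  obtain ⟨x, ax, cx⟩ := nn_x9 p l hβ
  have ch : ∀ k, Commute (p.h (1, β)) (p.h k) := fun k => (Commute.all _ _).map p.h
  have c1 : ∀ t, Commute (p.h (1, β)) (p.u (X1 t)) := fun t => by
    have e1 := p.hu (1, β) (X1 t)
    rw [show torA (1, β) (X1 t) = X1 t by ext <;> simp] at e1
    exact mul_inv_eq_iff_eq_mul.1 e1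
  obtain ⟨m, am, cm⟩ : ∃ m, NnA p.toCR m (fun y => (y.2, y.1)) ∧ Commute (p.h (1, β)) m :=
    ⟨_, (((NnA.x1 1).mul ax).mul (NnA.x1 1)).congr fun y => by ext <;> simp <;> grind,
      ((c1 1).mul_right cx).mul_right (c1 1)⟩
  have mm : m * m = 1 := NnA.eq l.hy hβ ((am.mul am).congr (f' := id) fun _ => rfl)
    (fun y => by simp) (cm.mul_right cm) (Commute.one_right _)
  have mi : m⁻¹ = m := inv_eq_of_mul_eq_one_right mm
  have mh : ∀ α γ, m * p.h (α, γ) * m = p.h (α⁻¹, α * γ) := fun α γ => by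
    have h1 := α.ne_zero
    have h2 : σ (α : K) ≠ 0 := by simp
    refine NnA.eq l.hy hβ (((am.mul (NnA.h p _)).mul am).congr fun y => ?_) (NnA.h p _)
      ((cm.mul_right (ch _)).mul_right cm) (ch _)
    ext <;> simp <;> exact Or.inl (by field_simp)
  have mT : ∀ a : OU K, a.x1 = 0 → ∃ b : OU K, b.x1 = 0 ∧ p.u b = m * p.u a * m := fun a ha => by
    have := (((am.mul (NnA.of_T ha)).mul am).congr (f' := id) fun _ => rfl).mem_T l.hy
      (g' := 1) fun y => by simp
    obtain ⟨b, hb, e⟩ := this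
    exact ⟨b, mem_sT.1 hb, by simpa using e⟩
  classical
  let μ : OU K → OU K := fun a => if h : a.x1 = 0 then (mT a h).choose else 1
  have μ1 : ∀ a : OU K, a.x1 = 0 → (μ a).x1 = 0 ∧ p.u (μ a) = m * p.u a * m := fun a ha => by
    simp only [μ, dif_pos ha]
    exact (mT a ha).choose_spec
  have key := chase hq (fun a => mu (μ a)) (fun _ _ => rfl) (fun a b ha hb => ?_) (fun k a ha => ?_)
    fun s t => ?_
  · refine ⟨⟨p, m, mm, fun a ha => ?_, mh, fun t => ?_⟩, rfl⟩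
    · rw [← (μ1 a ha).2, ← mu_mu (μ1 a ha).1, key a ha]
    · have h1 := t.ne_zero
      have h2 : σ (t : K) ≠ 0 := by simp
      refine NnA.eq l.hy hβ ((((NnA.x1 _).mul ((am.mul (NnA.x1 _)).mul am)).mul (NnA.x1 _)).congr
        fun y => ?_) ((NnA.h p _).mul am)
        (((c1 _).mul_right ((cm.mul_right (c1 _)).mul_right cm)).mul_right (c1 _))
        ((ch _).mul_right cm)
      ext <;> simp <;> field_simp <;> grind
  · rw [← mu_mul (μ1 a ha).1 (μ1 b hb).1]
    congr 1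
    apply p.inj
    rw [(μ1 _ (by simp [ha, hb])).2, map_mul, map_mul, (μ1 a ha).2, (μ1 b hb).2]
    calc _ = m * p.u a * (m * m) * p.u b * m := by rw [mm]; group
      _ = _ := by group
  · obtain ⟨α, γ⟩ := k
    rw [← nn_mu_tor]
    congr 1
    apply p.inj
    rw [(μ1 _ (by simp [ha])).2, ← p.hu, ← p.hu, (μ1 a ha).2, ← mh]
    simp only [mul_inv_rev, mi]
    calc _ = m * p.h (α, γ) * (m * m) * p.u a * (m * m) * (p.h (α, γ))⁻¹ * m := by rw [mm]; group
      _ = _ := by group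
  · have e : μ (EY s t) = EY t s := p.inj (by
      rw [(μ1 _ (by simp)).2]
      have := am (s, t)
      rwa [mi] at this)
    rw [e]
    ext <;> simp

end Cfsg.Agent.OCT
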