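import Cfsg.Agent.OCT.Chr
import Cfsg.Agent.R2.TI

/-! The relation `(m n)⁸ = 1` (notes/OCT.md, "Rel"). -/

set_option autoImplicit false
set_option linter.unusedSectionVars false

namespace Cfsg.Agent.OCT

open OU

universe u v w

section
open Cfsg Cfsg.Agent.H49 Cfsg.Agent.GOLD Cfsg.Agent.R2 Subgroup

/-- A TI Sylow 2-subgroup of rank at least two permutes the other Sylow 2-subgroups transitively. -/
theorem Rl.ti_trans {G : Type v} [Group G] [Finite G] {H E E' E'' : Subgroup G} (hE : IsSylowOf 2 E H)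
    {x y : G} (hx : x ∈ E) (hy : y ∈ E) (x1 : x ≠ 1) (y1 : y ≠ 1) (xy : x ≠ y) (xx : x * x = 1)
    (yy : y * y = 1) (cxy : x * y = y * x) (hti : ∀ g ∈ H, cj g E ≠ E → E ⊓ cj g E = ⊥)
    (h' : IsSylowOf 2 E' H) (h'' : IsSylowOf 2 E'' H) (n' : E' ≠ E) (n'' : E'' ≠ E) :
    ∃ e ∈ E, cj e E' = E'' := by
  have : Fact (Nat.Prime 2) := ⟨Nat.prime_two⟩
  have ord : ∀ {t : G} (ht : t ∈ H), t * t = 1 → t ≠ 1 → orderOf (⟨t, ht⟩ : H) = 2 :=
    fun ht h2 h1 => orderOf_eq_prime (Subtype.ext (by simpa [pow_two] using h2))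
      fun e => h1 (congrArg Subtype.val e)
  have mem : ∀ (t : H) (T : SylSet H), orderOf t = 2 → t • T = T → (t : G) ∈ T.1 := by
    intro t T ht e
    have h2 : (t : G) * t = 1 := by
      have := pow_orderOf_eq_one t
      rw [ht, pow_two] at this
      exact congrArg Subtype.val this
    exact T.2.le_of_norm (zpowers_le.2 t.2) (H71.isPi_zpowers_of_sq h2)
      (Or.inl (zpowers_le.2 (mem_norm_iff_cj.2 (sylSet_smul_eq.1 e)))) (mem_zpowers _)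
  let a : SylSet H := ⟨E, hE⟩
  have se : BEND.SE0 H (SylSet H) := by
    refine ⟨fun b c => ?_, fun t ht T T' e e' => ?_, fun c => ?_, ⟨⟨E', h'⟩, a, fun e => n' ?_⟩⟩
    · obtain ⟨g, hg, e⟩ := sylowOf_conj b.2 c.2
      exact ⟨⟨g, hg⟩, sylSet_smul_eq.2 e⟩
    · obtain ⟨g, hg, k⟩ := sylowOf_conj hE T.2
      obtain ⟨g', hg', k'⟩ := sylowOf_conj hE T'.2
      have m := mem t T ht e
      have m' := mem t T' ht e'
      by_contra hne
      have h1 : cj (g⁻¹ * g') E ≠ E := fun e1 => hne (Subtype.ext (by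
        rw [cj_mul, cj_eq_iff, inv_inv] at e1
        rw [← k, ← k']
        exact e1.symm))
      have h2 := hti _ (mul_mem (inv_mem hg) hg') h1
      have h3 : g⁻¹ * t * g ∈ E ⊓ cj (g⁻¹ * g') E := by
        refine ⟨mem_cj.1 (k ▸ m), ?_⟩
        rw [cj_mul, k']
        change _ ∈ cj g⁻¹ _
        rw [mem_cj]
        simpa [mul_assoc] using m'
      rw [h2, mem_bot] at h3
      have : t = 1 := Subtype.ext (by
        have : (t : G) = g * (g⁻¹ * t * g) * g⁻¹ := by group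
        rw [this, h3]; simp)
      rw [this] at ht
      simp at ht
    · obtain ⟨g, hg, k⟩ := sylowOf_conj hE c.2
      have hm : g * x * g⁻¹ ∈ c.1 := k ▸ conj_mem_cj.2 hx
      refine ⟨⟨_, c.2.le hm⟩, ord _ ?_ (by simpa using x1), sylSet_smul_eq.2 (cj_eq_of_mem hm)⟩
      rw [show g * x * g⁻¹ * (g * x * g⁻¹) = g * (x * x) * g⁻¹ by group, xx]
      simp
    · exact congrArg Subtype.val e
  obtain ⟨g', hg', k'⟩ := sylowOf_conj hE h'
  obtain ⟨g'', hg'', k''⟩ := sylowOf_conj hE h''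
  have m' : (⟨g', hg'⟩ : H) • a ≠ a := fun e => n' (k'.symm.trans (sylSet_smul_eq.1 e))
  have m'' : (⟨g'', hg''⟩ : H) • a ≠ a := fun e => n'' (k''.symm.trans (sylSet_smul_eq.1 e))
  have bt : BEND.BT (⊤ : Subgroup H) a :=
    ⟨⟨⟨x, hE.le hx⟩, mem_top _, ⟨y, hE.le hy⟩, mem_top _, fun e => x1 (congrArg Subtype.val e),
      fun e => y1 (congrArg Subtype.val e), fun e => xy (congrArg Subtype.val e),
      Subtype.ext xx, Subtype.ext yy, Subtype.ext cxy⟩,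
     ⟨⟨x, hE.le hx⟩, mem_top _, ord _ xx x1, sylSet_smul_eq.2 (cj_eq_of_mem hx)⟩,
     ⟨_, mem_top _, m'⟩⟩
  obtain ⟨G', Ω', _, _, π, ι, a', q⟩ := BEND.exists_quot (⊤ : Subgroup H) a
  have : Finite G' := Finite.of_surjective _ q.surj
  obtain ⟨Q', hQ'⟩ := (q.se se bt).suz a'
  have b := q.bsec se bt (Q' := Q') fun t ht hta =>
    (hQ' _ (q.orderOf_two se bt ht) fun e => hta ((q.fix_a t).1 e)).1
  have hS : H42.SylIn 2 (E.subgroupOf H) (⊤ ⊓ MulAction.stabilizer H a) := by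
    have h1 := (sylowOf_iff Nat.prime_two).1 (((hall_subgroupOf_top hE.le).2 hE).sub
      (L := ⊤ ⊓ MulAction.stabilizer H a)
      (fun e he => ⟨mem_top _, sylSet_smul_eq.2 (cj_eq_of_mem he)⟩) le_top)
    exact ⟨h1.1, h1.2.1, h1.2.2⟩
  obtain ⟨z, hz, e⟩ := b.trans _ (mem_top _) _ (mem_top _) m' m''
  obtain ⟨s, hs, n, hn, rfl⟩ := (b.exists_two se hS).2 z hz
  rw [mul_smul, hn.2 _ (mem_top _)] at e
  refine ⟨s, hs, ?_⟩
  rw [← k', ← k'']
  exact sylSet_smul_eq.1 e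

end

variable {K : Type u} [Field K] [Tits K] {G : Type v} [Group G]

namespace Rl

/-- the involution `m n m` -/
def κ (f : FR0 K G) : G := f.m * f.n * f.m

variable (f : FR0 K G)

theorem κκ : κ f * κ f = 1 := by
  rw [κ, show f.m * f.n * f.m * (f.m * f.n * f.m) = f.m * f.n * (f.m * f.m) * f.n * f.m by group, f.mm,
    mul_one, mul_assoc f.m, f.nn, mul_one, f.mm]

theorem κ_inv : (κ f)⁻¹ = κ f := inv_eq_of_mul_eq_one_right (κκ f)

theorem κ_conj (x : G) : κ f * x * κ f = f.m * (f.n * (f.m * x * f.m) * f.n) * f.m := by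
  simp only [κ, mul_assoc]

theorem κ_u {a : OU K} (ha : a ∈ (sU4 : Subgroup (OU K))) : κ f * f.u a * (κ f)⁻¹ = f.u (E8 a.y4 a.x4) := by
  obtain ⟨h0, h1, h2, h3, h4, h5, h6, h7, h8, h9⟩ := ha
  rw [κ_inv, κ_conj, f.mu a h0, f.nu _ (by simp [h1, h2]), f.mu _ (by simp [h1, h2, h3])]
  congr 1
  ext <;> simp [h1, h2, h3, h4, h5, h6, h7, h8, h9]

theorem κ_h (α : Kˣ) : κ f * f.h (α, 1) * (κ f)⁻¹ = f.d α := by
  rw [κ_inv, κ_conj, f.mh, f.nh, f.mh, f.hd, dk_apply]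
  congr 1
  refine Prod.ext (Units.ext ?_) (Units.ext ?_) <;> simp <;> field_simp

theorem n_h (α : Kˣ) : Commute f.n (f.h (α, 1)) := by
  have := f.nh α 1
  simp only [one_pow, σu_one, mul_one, inv_one] at this
  rw [Commute, SemiconjBy, ← this, ← mul_assoc, ← mul_assoc, f.nn, one_mul, this]

theorem n_u {a : OU K} (ha : a ∈ (sU4 : Subgroup (OU K))) : Commute f.n (f.u a) := by
  obtain ⟨h0, h1, h2, h3, h4, h5, h6, h7, h8, h9⟩ := ha
  have e : nu a = a := by ext <;> simp [h0, h1, h2, h3, h4, h5, h6, h7, h8, h9]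
  have := f.nu a ⟨h8, h9⟩
  rw [e] at this
  rw [Commute, SemiconjBy, ← this, ← mul_assoc, ← mul_assoc, f.nn, one_mul, this]

theorem eq_E8 {a : OU K} (ha : a ∈ (sU8 : Subgroup (OU K))) : a = E8 a.y8 a.x8 := by
  obtain ⟨h0, h1, h2, h3, h4, h5, h6, h7, h8, h9⟩ := ha
  ext <;> simp [h0, h1, h2, h3, h4, h5, h6, h7, h8, h9]

theorem exists_κ {e : G} (he : e ∈ f.toCR.S sU8) :
    ∃ a ∈ (sU4 : Subgroup (OU K)), e = κ f * f.u a * (κ f)⁻¹ := by
  obtain ⟨a, ha, rfl⟩ := he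
  refine ⟨Y4 a.y8 * X4 a.x8, by simp, ?_⟩
  rw [κ_u f (by simp)]
  exact congrArg f.u ((eq_E8 ha).trans (by simp))

theorem comm_X8 (b : K) {e : G} (he : e ∈ f.toCR.S sU8) : Commute e (f.u (X8 b)) := by
  obtain ⟨a, ha, rfl⟩ := he
  refine Commute.map (show a * X8 b = X8 b * a from ?_) f.u
  rw [eq_E8 ha]
  ext <;> simp [add_comm]

/-- a nontrivial element of `U₈` has a power `x₈(b)` -/
theorem exists_pow {e : G} (he : e ∈ f.toCR.S sU8) (h1 : e ≠ 1) :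
    ∃ b : K, b ≠ 0 ∧ ∃ j : ℕ, e ^ j = f.u (X8 b) := by
  obtain ⟨a, ha, rfl⟩ := he
  by_cases c : a.y8 = 0
  · refine ⟨a.x8, fun h => h1 ?_, 1, ?_⟩
    · rw [eq_E8 ha, c, h]; exact map_one f.u
    · rw [pow_one]; exact congrArg f.u ((eq_E8 ha).trans (by rw [c]; rfl))
  · refine ⟨a.y8 * σ a.y8, by simp [c], 2, ?_⟩
    rw [← map_pow, sq, eq_E8 ha]
    congr 1
    ext <;> simp [CharTwo.add_self_eq_zero]

theorem sq_one {e : G} (he : e ∈ f.toCR.S sU8) (h1 : e * e = 1) : ∃ b : K, e = f.u (X8 b) := by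
  obtain ⟨a, ha, rfl⟩ := he
  have h2 := congrArg OU.x8 (f.inj ((map_mul f.u a a).trans (h1.trans (map_one f.u).symm)))
  have h3 : a.y8 = 0 := by simpa [CharTwo.add_self_eq_zero] using h2
  exact ⟨a.x8, congrArg f.u ((eq_E8 ha).trans (by rw [h3]; rfl))⟩

theorem X8_sq (b : K) : f.u (X8 b) * f.u (X8 b) = 1 := by
  rw [← map_mul, ← map_one f.u]
  congr 1
  ext <;> simp [CharTwo.add_self_eq_zero]

theorem X8_inj {a b : K} (h : f.u (X8 a) = f.u (X8 b)) : a = b := congrArg OU.x8 (f.inj h)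

theorem X8_ne {a : K} (h : a ≠ 0) : f.u (X8 a) ≠ 1 := fun e => h (X8_inj f (e.trans (map_one f.u).symm))

variable [Finite K] {f}

/-- a 2-element which centralizes `h(α, 1)` and `x₈(b)` lies in `U₈` -/
theorem mem_U8 (h : Hy f.toCR) {α : Kˣ} (hα : α ≠ 1) {b : K} (hb : b ≠ 0) {g : G} (h2 : Two g)
    (hh : Commute g (f.h (α, 1))) (hx : Commute g (f.u (X8 b))) : g ∈ f.toCR.S sU8 := by
  obtain ⟨r, hr⟩ := Finite.surjective_of_injective (f := fun a : K => a ^ 2 * σ a) (fun _ _ => nrm2_inj) b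
  have r0 : r ≠ 0 := by rintro rfl; exact hb (by simpa using hr.symm)
  set k := κ f * f.h (Units.mk0 r r0, 1) with hk
  have e1 : k * f.toCR.τ * k⁻¹ = f.u (X8 b) := by
    rw [hk, mul_inv_rev, show ∀ a b c d e : G, a * b * c * (d * e) = a * (b * c * d) * e from
      fun _ _ _ _ _ => by simp only [mul_assoc], CR.τ, f.hu, κ_u f (by simp), ← hr]
    congr 1
    ext <;> simp
  have e2 : k * f.d α * k⁻¹ = f.h (α, 1) := by
    rw [hk, mul_inv_rev, show ∀ a b c d e : G, a * b * c * (d * e) = a * (b * c * d) * e from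
      fun _ _ _ _ _ => by simp only [mul_assoc], f.hd, ← map_inv, ← map_mul, ← map_mul,
      mul_inv_cancel_comm, ← f.hd, ← κ_h, κ_inv, ← mul_assoc, ← mul_assoc, κκ, one_mul, mul_assoc, κκ, mul_one]
  have hc : ∀ {x : G}, Commute g (k * x * k⁻¹) → Commute (k⁻¹ * g * k⁻¹⁻¹) x := fun {x} e => by
    simpa [mul_assoc] using e.conj k⁻¹
  obtain ⟨a, ha, e⟩ := f.toCR.cent_d (h.two _ (h2.conj k⁻¹) (hc (e1 ▸ hx))) (h2.conj k⁻¹) hα (hc (e2 ▸ hh))
  have e3 : g = κ f * (f.h (Units.mk0 r r0, 1) * f.u a * (f.h (Units.mk0 r r0, 1))⁻¹) * (κ f)⁻¹ := by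
    rw [show f.u a = _ from e, hk]; group
  obtain ⟨h0, h1, h2, h3, h4, h5, h6, h7, h8, h9⟩ := ha
  rw [e3, f.hu, κ_u f (by simp [h0, h1, h2, h3, h4, h5, h6, h7, h8, h9])]
  exact f.toCR.u_mem_S.2 (by simp)

end Rl

variable [Finite K] [Finite G]

open Cfsg Cfsg.Agent.H49 Subgroup Rl in
theorem FR0.rel (f : FR0 K G) (h : Hy f.toCR) (hq : 2 < Nat.card K) : (f.m * f.n) ^ 8 = 1 := by
  have : Fact (Nat.Prime 2) := ⟨Nat.prime_two⟩
  obtain ⟨b, b0, b1⟩ : ∃ b : K, b ≠ 0 ∧ b ≠ 1 := by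
    by_contra hc
    push Not at hc
    have := Nat.card_le_card_of_surjective (fun i : Bool => if i then (1 : K) else 0) fun y => by
      by_cases c : y = 0
      exacts [⟨false, c.symm⟩, ⟨true, (hc y c).symm⟩]
    simp at this
    omega
  set α := Units.mk0 b b0 with hα
  have α1 : α ≠ 1 := fun e => b1 (congrArg Units.val e)
  set E := f.toCR.S sU8 with hE
  set D : Subgroup G := 𝒞[f.h (α, 1)] with hD
  set μ := κ f * f.n * (κ f)⁻¹ with hμ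
  have mD : ∀ {g}, g ∈ D ↔ Commute g (f.h (α, 1)) := mem_centralizer_singleton_iff
  have E2 : IsPGroup 2 E := f.toCR.isPGroup_U.to_le (f.toCR.S_le_U _)
  have tw : ∀ {Q : Subgroup G}, IsPGroup 2 Q → ∀ {g}, g ∈ Q → Two g := fun hQ g hg =>
    (hQ ⟨g, hg⟩).imp fun _ e => congrArg Subtype.val e
  have ED : E ≤ D := by
    rintro _ ⟨a, ha, rfl⟩
    refine mD.2 (Commute.symm (mul_inv_eq_iff_eq_mul.1 ((f.hu _ a).trans (congrArg f.u ?_))))
    rw [eq_E8 ha]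
    ext <;> simp
  have x8E : ∀ c, f.u (X8 c) ∈ E := fun c => f.toCR.u_mem_S.2 (by simp)
  have syl : IsSylowOf 2 E D := by
    refine sylowOf_of_max ((isPi_singleton_iff Nat.prime_two).2 E2) ED fun Q hEQ hQD hQ => ?_
    have Q2 := (isPi_singleton_iff Nat.prime_two).1 hQ
    have : Nontrivial Q := ⟨⟨_, hEQ (x8E 1)⟩, 1, fun e => X8_ne f one_ne_zero (congrArg Subtype.val e)⟩
    obtain ⟨⟨z, hz⟩, z1⟩ := @exists_ne _ Q2.center_nontrivial 1
    have zc : ∀ g ∈ Q, Commute g (z : G) := fun g hg => congrArg Subtype.val (mem_center_iff.1 hz ⟨g, hg⟩)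
    obtain ⟨c, c0, j, e⟩ := exists_pow f (mem_U8 h α1 one_ne_zero (tw Q2 z.2) (mD.1 (hQD z.2))
      (zc _ (hEQ (x8E 1))).symm) fun e => z1 (Subtype.ext (Subtype.ext e))
    exact fun g hg => mem_U8 h α1 c0 (tw Q2 hg) (mD.1 (hQD hg)) (e ▸ (zc g hg).pow_right j)
  have ti : ∀ g ∈ D, cj g E ≠ E → E ⊓ cj g E = ⊥ := fun g hg hne => by
    by_contra hb
    obtain ⟨⟨e, he⟩, e1⟩ := (ne_bot_iff_exists_ne_one).1 hb
    obtain ⟨c, c0, j, ej⟩ := exists_pow f he.1 fun k => e1 (Subtype.ext k)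
    have m1 : f.u (X8 c) ∈ cj g E := ej ▸ pow_mem he.2 j
    obtain ⟨c', hc'⟩ := sq_one f (mem_cj.1 m1) (by
      rw [show ∀ x : G, g⁻¹ * x * g * (g⁻¹ * x * g) = g⁻¹ * (x * x) * g from fun x => by group, X8_sq]
      group)
    have sg := syl.cj_of_mem hg
    refine hne (sg.eq_of_le (fun y hy => mem_U8 h α1 c0
      (tw ((isPi_singleton_iff Nat.prime_two).1 sg.pi) hy) (mD.1 (sg.le hy)) ?_) ED syl.pi)
    have k := (comm_X8 f c' (mem_cj.1 hy)).conj g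
    rw [← hc'] at k
    simpa [mul_assoc] using k
  have nD : f.n ∈ D := mD.2 (n_h f α)
  have ninv := f.toCR.n_inv
  have μμ : μ * μ = 1 := by rw [hμ, conj_mul, f.nn, mul_one, mul_inv_cancel]
  have μinv : μ⁻¹ = μ := inv_eq_of_mul_eq_one_right μμ
  have μE : ∀ e ∈ E, Commute μ e := fun e he => by
    obtain ⟨a, ha, rfl⟩ := exists_κ f he
    exact (n_u f ha).conj _
  have μd : Commute μ (f.d α) := κ_h f α ▸ (n_h f α).conj _
  have μh : μ * f.h (α, 1) * μ⁻¹ = (f.h (α, 1))⁻¹ := by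
    have e : f.h (α, 1) = κ f * f.d α * (κ f)⁻¹ := by
      rw [← κ_h, κ_inv, ← mul_assoc, ← mul_assoc, κκ, one_mul, mul_assoc, κκ, mul_one]
    rw [e, μinv, hμ, conj_mul, conj_mul, f.nd]; group
  have μN : μ ∈ 𝒩(D) := by
    rw [mem_norm_iff_cj, hD, cj_cent1, μh]
    ext g
    simp only [mem_centralizer_singleton_iff]
    exact Commute.inv_right_iff
  have cμE : cj μ E = E := cj_eq_of_mem_cent fun e he => (μE e he).symm
  obtain ⟨a₁, h₁, s, a₂, h₂, bru⟩ := f.bru (X8 1) (by simp) fun e => one_ne_zero (congrArg OU.x8 e)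
  have wE : f.n * f.u (X8 1) * f.n ∈ cj f.n E := by simpa only [ninv] using (conj_mem_cj (g := f.n)).2 (x8E 1)
  have n0 : cj f.n E ≠ E := fun e => by
    obtain ⟨a, -, ea⟩ := e ▸ wE
    exact f.toCR.bru_ne a a₁ a₂ 1 s (by rw [map_one, mul_one, ← bru]; exact ea)
  have s0 := syl.cj_of_mem nD
  have nrm : ∀ {A B : Subgroup G}, IsSylowOf 2 A D → IsSylowOf 2 B D → ∀ {g}, g ∈ A → cj g B = B → g ∈ B :=
    fun hA hB g hg e => hB.le_of_norm (zpowers_le.2 (hA.le hg)) (hA.pi.of_le (zpowers_le.2 hg))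
      (Or.inl (zpowers_le.2 (mem_norm_iff_cj.2 e))) (mem_zpowers g)
  obtain ⟨v, hv, ev⟩ := Rl.ti_trans syl (x8E 1) (x8E b) (X8_ne f one_ne_zero) (X8_ne f b0)
    (fun e => b1 (X8_inj f e).symm) (X8_sq f 1) (X8_sq f b) (comm_X8 f b (x8E 1)) ti s0 (s0.cj_of_mem_norm μN) n0
    fun e => n0 (cj_injective μ (e.trans cμE.symm))
  have dE : ∀ (t : Kˣ), ∀ e ∈ E, f.d t * e * (f.d t)⁻¹ ∈ E := by
    rintro t _ ⟨a, ha, rfl⟩
    rw [f.du, eq_E8 ha]
    exact f.toCR.u_mem_S.2 (by simp)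
  have cdE : ∀ t : Kˣ, cj (f.d t) E = E := fun t => mem_norm_iff_cj.1 (mem_normalizer_fintype (dE t))
  have cd0 : ∀ t : Kˣ, cj (f.d t) (cj f.n E) = cj f.n E := fun t => by
    have : f.d t * f.n = f.n * f.d t⁻¹ := by
      rw [map_inv, ← f.nd, ← mul_assoc, ← mul_assoc, f.nn, one_mul]
    rw [cj_cj, this, cj_mul, cdE]
  have v1 : v = 1 := by
    have m1 : v⁻¹ * (f.d α * v * (f.d α)⁻¹) ∈ E := mul_mem (inv_mem hv) (dE α v hv)
    have m2 : v⁻¹ * (f.d α * v * (f.d α)⁻¹) ∈ E ⊓ cj f.n E := ⟨m1, nrm syl s0 m1 (by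
      rw [cj_mul, cj_mul, cj_mul, ← map_inv, cd0, ev, cj_cj (f.d α), ← μd.eq, cj_mul, cd0, ← ev, cj_inv_cj])⟩
    rw [ti _ nD n0, mem_bot, inv_mul_eq_one] at m2
    obtain ⟨a, ha, rfl⟩ := hv
    have e := f.inj (m2.trans (f.du α a))
    have e1 : a.y8 = σ b * a.y8 := congrArg OU.y8 e
    have e2 : a.x8 = b ^ 2 * σ b * a.x8 := congrArg OU.x8 e
    have k1 : a.y8 = 0 := by
      by_contra c
      exact b1 (σ_inj.1 ((mul_left_eq_self₀.1 e1.symm).resolve_right c |>.trans (map_one σ).symm))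
    have k2 : a.x8 = 0 := by
      by_contra c
      exact b1 (nrm2_inj (((mul_left_eq_self₀.1 e2.symm).resolve_right c).trans (by simp)))
    rw [eq_E8 ha, k1, k2]; exact map_one f.u
  rw [v1, cj_one] at ev
  have u₁ : f.u a₁ ∈ E := f.toCR.u_mem_S.2 h₁
  have u₂ : f.u a₂ ∈ E := f.toCR.u_mem_S.2 h₂
  have μs : Commute μ (f.d s) := κ_h f s ▸ (n_h f s).conj _
  have w' : μ * (f.n * f.u (X8 1) * f.n) * μ⁻¹ ∈ cj f.n E := ev ▸ conj_mem_cj.2 wE
  have e4 : (f.n * f.u (X8 1) * f.n)⁻¹ * (μ * (f.n * f.u (X8 1) * f.n) * μ⁻¹) =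
      (f.u a₂)⁻¹ * (f.n * (μ * f.n * μ⁻¹)) * f.u a₂ := by
    rw [bru, ← conj_mul, ← conj_mul, ← conj_mul, (μE _ u₁).mul_inv_cancel, (μE _ u₂).mul_inv_cancel,
      μs.mul_inv_cancel, mul_inv_rev, mul_inv_rev, ninv]
    group
  have m3 := mul_mem (inv_mem wE) w'
  rw [e4] at m3
  have m4 : (f.u a₂)⁻¹ * (f.n * (μ * f.n * μ⁻¹)) * f.u a₂ ∈ E ⊓ cj f.n E := ⟨nrm s0 syl m3 (by
    rw [cj_mul, cj_mul, cj_mul, cj_mul, cj_mul, cj_eq_of_mem u₂, μinv, cμE, ← ev, cj_cj f.n, f.nn, cj_one,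
      cj_eq_of_mem (inv_mem u₂)]), m3⟩
  rw [ti _ nD n0, mem_bot] at m4
  have e5 : f.n * (μ * f.n * μ⁻¹) = 1 := by
    rwa [mul_eq_one_comm, ← mul_assoc, mul_inv_cancel, one_mul] at m4
  have e6 : (f.m * f.n) ^ 8 = μ * f.n * μ⁻¹ * f.n := by
    rw [μinv, hμ, κ_inv, κ]
    simp only [pow_succ, pow_zero, one_mul, mul_assoc]
  rw [e6, ← mul_eq_one_comm, e5]

end Cfsg.Agent.OCT
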