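import Cfsg.Agent.OCT.Inv
import Cfsg.Agent.OCT.Q2a
import Cfsg.Agent.OCT.Rel
import Mathlib.GroupTheory.Nilpotent

set_option autoImplicit false
set_option linter.unusedSectionVars false

namespace Cfsg.Agent.OCT

open OU

universe u v w

variable {K : Type u} [Field K] [Tits K] {G : Type v} [Group G]

namespace R2x

theorem nil_fix {H : Type*} [Group H] [Group.IsNilpotent H] (y : H) (A : H → Prop)
    (hF : ∀ a, A a → A (y * a * y⁻¹ * a⁻¹)) (h0 : ∀ a, A a → y * a * y⁻¹ * a⁻¹ = 1 → a = 1) {a : H}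
    (ha : A a) : a = 1 := by
  obtain ⟨n, hn⟩ := Subgroup.nilpotent_iff_lowerCentralSeries.1 (inferInstance : Group.IsNilpotent H)
  have h1 : ∀ k, ∀ a, A a → (fun a => y * a * y⁻¹ * a⁻¹)^[k] a = 1 → a = 1 := by
    intro k
    induction k with
    | zero => exact fun a _ e => e
    | succ k ih => exact fun a ha e => h0 a ha (ih _ (hF a ha) e)
  have h2 : ∀ k, (fun a => y * a * y⁻¹ * a⁻¹)^[k] a ∈ (⊤ : Subgroup H).lowerCentralSeries k := by
    intro k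
    induction k with
    | zero => simp
    | succ k ih =>
      rw [Function.iterate_succ_apply', Subgroup.lowerCentralSeries_succ, Subgroup.commutator_comm]
      exact Subgroup.commutator_mem_commutator (Subgroup.mem_top y) ih
  exact h1 n a ha (by simpa [hn] using h2 n)

theorem nilp [Finite K] : Group.IsNilpotent (OU K) := by
  obtain ⟨k, -, hk⟩ := bru_card_K (K := K)
  have : Fact (Nat.Prime 2) := ⟨Nat.prime_two⟩
  exact (IsPGroup.of_card (p := 2) (n := k * 12) (by rw [card_OU, hk, pow_mul])).isNilpotent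

theorem cY8 (h01 : ∀ t : K, t = 0 ∨ t = 1) {a : OU K} (ha : a ∈ (sQ : Subgroup (OU K)))
    (e : Y8 1 * a = a * Y8 1) :
    a.x1 = 0 ∧ a.y2 = 0 ∧ a.x2 = 0 ∧ a.x3 = 0 ∧ a.x5 = 0 ∧ a.y6 = 0 := by
  obtain ⟨h1, h2⟩ := ha
  have hs := TwoA.σ_eq h01
  have e1 : a.x1 = 0 := by simpa [h1, h2] using congrArg OU.y2 e
  have e2 : a.y2 = 0 := by simpa [h1, h2, e1, hs] using congrArg OU.y4 e
  have e3 : a.x2 = 0 := by simpa [h1, h2, e1, e2] using congrArg OU.x3 e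
  have e4 : a.x3 = 0 := by simpa [h1, h2, e1, e2, e3] using congrArg OU.x5 e
  have e5 : a.y6 = 0 := by simpa [h1, h2, e1, e2, e3] using congrArg OU.x7 e
  have e6 : a.x5 = 0 := by simpa [h1, h2, e1, e2, e3, e4, e5] using congrArg OU.x6 e
  exact ⟨e1, e2, e3, e4, e6, e5⟩

theorem cY4 (h01 : ∀ t : K, t = 0 ∨ t = 1) {a : OU K} (ha : a ∈ (sQ : Subgroup (OU K)))
    (e : a * Y4 1 = Y4 1 * a) : a ∈ (sR : Subgroup (OU K)) := by
  obtain ⟨h1, h2⟩ := ha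
  have e1 : a.x1 = 0 := by simpa [h1, h2] using congrArg OU.x2 e
  have e2 : a.y2 = 0 := by simpa [h1, h2, e1] using congrArg OU.x3 e
  have e3 : a.y6 = 0 := by simpa [h1, h2, e1, e2] using congrArg OU.x5 e
  have e4 : a.x7 = 0 := by simpa [h1, h2, e1, e2, e3] using congrArg OU.x6 e
  exact ⟨e1, e2, e3, e4, h1, h2⟩

theorem last (h01 : ∀ t : K, t = 0 ∨ t = 1) {q : OU K} (hq : q ∈ (sR : Subgroup (OU K)))
    (e : q * nu (Y8 1 * q * (Y8 1)⁻¹) = Y8 1 * q * (Y8 1)⁻¹) : q = 1 ∨ q = X2 1 * X6 1 := by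
  obtain ⟨h1, h2, h3, h4, h5, h6⟩ := hq
  have hs := TwoA.σ_eq h01
  have hs' : Y8 1 * q * (Y8 1)⁻¹ = (⟨0, 0, q.x2, q.x3 + q.x2, q.y4, q.x4 + q.x3, q.x5 + q.x3 + q.x2, 0,
      q.x6 + q.x5 + q.x2, 0, 0, 0⟩ : OU K) := by
    rw [mul_inv_eq_iff_eq_mul]
    ext <;> simp [h1, h2, h3, h4, h5, h6, hs]
  rw [hs'] at e
  have e1 := congrArg OU.x2 e
  have e2 := congrArg OU.x3 e
  have e3 := congrArg OU.y4 e
  have e4 := congrArg OU.x4 e
  have e5 := congrArg OU.x5 e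
  have e6 := congrArg OU.x6 e
  simp [h1, h2, h3, h4, h5, h6, hs] at e1 e2 e3 e4 e5 e6
  rcases h01 q.x2 with k | k
  · left
    ext <;> simp [h1, h2, h3, h4, h5, h6] <;> grind
  · right
    ext <;> simp [h1, h2, h3, h4, h5, h6] <;> grind

variable (f : FR0 K G)

/-- the point `x₁₂` -/
def P4 : G := (f.m * f.n) ^ 4 * f.toCR.τ * ((f.m * f.n) ^ 4)⁻¹

theorem κτ : Rl.κ f * f.toCR.τ * Rl.κ f = f.u (X8 1) := by
  have := Rl.κ_u f (a := X4 1) (by simp)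
  rw [Rl.κ_inv] at this
  exact this.trans (congrArg f.u (by ext <;> simp))

theorem κy : Rl.κ f * f.u (Y4 1) * Rl.κ f = f.u (Y8 1) := by
  have := Rl.κ_u f (a := Y4 1) (by simp)
  rw [Rl.κ_inv] at this
  exact this.trans (congrArg f.u (by ext <;> simp))

theorem κ_κ (x : G) : Rl.κ f * (Rl.κ f * x * Rl.κ f) * Rl.κ f = x := by
  rw [show Rl.κ f * (Rl.κ f * x * Rl.κ f) * Rl.κ f = (Rl.κ f * Rl.κ f) * x * (Rl.κ f * Rl.κ f) by group,
    Rl.κκ, one_mul, mul_one]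

theorem P4_eq : P4 f = Rl.κ f * (f.n * f.u (X8 1) * f.n) * Rl.κ f := by
  have h1 : f.n * f.toCR.τ * f.n = f.toCR.τ := by
    rw [CR.τ, (Rl.n_u f (a := X4 1) (by simp)).eq, mul_assoc, f.nn, mul_one]
  have hm : f.m⁻¹ = f.m := inv_eq_of_mul_eq_one_right f.mm
  rw [← κτ, ← h1, P4]
  simp only [Rl.κ, pow_succ, pow_zero, one_mul, mul_inv_rev, hm, f.toCR.n_inv, mul_assoc]

theorem comm_P4 {g : G} : Commute g (P4 f) ↔ Commute (Rl.κ f * g * Rl.κ f) (f.n * f.u (X8 1) * f.n) := by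
  constructor
  · intro h
    have := h.conj (Rl.κ f)
    rwa [Rl.κ_inv, P4_eq, κ_κ] at this
  · intro h
    have := h.conj (Rl.κ f)
    rwa [Rl.κ_inv, κ_κ, ← P4_eq] at this

/-- the common centralizer -/
def S : Subgroup G := Subgroup.centralizer {f.toCR.τ, P4 f}

theorem mem_S {g : G} : g ∈ S f ↔ Commute g f.toCR.τ ∧ Commute g (P4 f) := by
  simp only [S, Subgroup.mem_centralizer_iff, Set.mem_insert_iff, Set.mem_singleton_iff, forall_eq_or_imp,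
    forall_eq]
  exact and_congr ⟨fun h => h.symm, fun h => h.symm⟩ ⟨fun h => h.symm, fun h => h.symm⟩

theorem u_τ (a : OU K) : Commute (f.u a) f.toCR.τ := f.toCR.comm_Z (f.toCR.u_mem a) f.toCR.τ_mem_Z

theorem U8_S {e : OU K} (he : e ∈ (sU8 : Subgroup (OU K))) : f.u e ∈ S f := by
  refine (mem_S f).2 ⟨u_τ f e, (comm_P4 f).2 ?_⟩
  obtain ⟨a, ha, e1⟩ := Rl.exists_κ f (e := f.u e) (f.toCR.u_mem_S.2 he)
  rw [e1, Rl.κ_inv, κ_κ]
  have h1 := (Rl.n_u f ha).symm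
  refine (h1.mul_right (f.toCR.inv_comm ?_)).mul_right h1
  obtain ⟨h0, h1, h2, h3, h4, h5, h6, h7, h8, h9⟩ := ha
  ext <;> simp [h0, h1, h2, h3, h4, h5, h6, h7, h8, h9, add_comm]

variable [Finite K] [Finite G]

theorem y4_S (hq : Nat.card K = 2) {s : G} (hs : s ∈ S f) : (f.u (Y4 1))⁻¹ * s * f.u (Y4 1) ∈ S f := by
  obtain ⟨h1, h2⟩ := (mem_S f).1 hs
  have h01 := TwoA.zero_or_one hq
  have y2 : f.u (X8 1) = f.u (Y8 1) * f.u (Y8 1) := by
    rw [← map_mul]; congr 1; ext <;> simp [CharTwo.add_self_eq_zero]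
  have y4 : f.u (Y8 1) * f.u (Y8 1) * f.u (Y8 1) = (f.u (Y8 1))⁻¹ := by
    rw [eq_inv_iff_mul_eq_one, mul_assoc, ← y2, Rl.X8_sq]
  have hx := f.toCR.f20x hq
  set x0 := f.n * f.u (X8 1) * f.n with hx0
  have hn : f.u (Y8 1) * x0 * (f.u (Y8 1))⁻¹ = f.n := by rw [hx]; group
  have key : f.u (Y8 1) * x0 * (f.u (Y8 1))⁻¹ = f.u (X8 1) * x0 * f.u (X8 1) * x0 * f.u (X8 1) := by
    conv_lhs => rw [hx0, ← y4, y2]
    rw [hx, y2]
    group
  have key2 : f.u (Y4 1) * P4 f * (f.u (Y4 1))⁻¹ = f.toCR.τ * P4 f * f.toCR.τ * P4 f * f.toCR.τ := by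
    have e1 : f.u (Y4 1) = Rl.κ f * f.u (Y8 1) * (Rl.κ f)⁻¹ := by rw [Rl.κ_inv, ← κy, κ_κ]
    have e2 : f.toCR.τ = Rl.κ f * f.u (X8 1) * (Rl.κ f)⁻¹ := by rw [Rl.κ_inv, ← κτ, κ_κ]
    have e3 : P4 f = Rl.κ f * x0 * (Rl.κ f)⁻¹ := by rw [Rl.κ_inv, P4_eq]
    rw [e1, e3, e2]
    calc _ = Rl.κ f * (f.u (Y8 1) * x0 * (f.u (Y8 1))⁻¹) * (Rl.κ f)⁻¹ := by group
      _ = _ := by rw [key]; group
  refine (mem_S f).2 ⟨((u_τ f _).inv_left.mul_left h1).mul_left (u_τ f _), ?_⟩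
  have h3 : Commute s (f.u (Y4 1) * P4 f * (f.u (Y4 1))⁻¹) := by
    rw [key2]
    exact (((h1.mul_right h2).mul_right h1).mul_right h2).mul_right h1
  have := h3.conj (f.u (Y4 1))⁻¹
  simpa [mul_assoc] using this

theorem base (hq : Nat.card K = 2) {a : OU K} (ha : a ∈ (sQ : Subgroup (OU K))) (hS : f.u a ∈ S f)
    (e : Y8 1 * a = a * Y8 1) : a = 1 := by
  have h01 := TwoA.zero_or_one hq
  obtain ⟨e1, e2, e3, e4, e5, e6⟩ := cY8 h01 ha e
  obtain ⟨e7, e8⟩ := ha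
  have h1 := (comm_P4 f).1 ((mem_S f).1 hS).2
  rw [Rl.κ_conj, f.mu a e1, f.nu _ (by simp [e2, e3]), f.mu _ (by simp [e2, e3, e4])] at h1
  set a' := mu (nu (mu a)) with ha'
  have h2 : Commute (f.n * f.u a' * f.n) (f.u (X4 0 * X8 1)) := by
    have := h1.conj f.n
    rw [f.toCR.n_inv, show f.n * (f.n * f.u (X8 1) * f.n) * f.n = (f.n * f.n) * f.u (X8 1) * (f.n * f.n) by
      group, f.nn, one_mul, mul_one] at this
    rwa [show X4 (0 : K) * X8 1 = X8 1 by ext <;> simp]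
  have h3 := (f.toCR.cent_x8 (mul_mem (mul_mem f.toCR.n_mem (f.toCR.u_mem a')) f.toCR.n_mem) 0).1 h2
  have h4 := f.toCR.mem_Q_of (f.toCR.S_le_U _ h3)
  rw [f.nu _ h4, f.toCR.u_mem_S] at h3
  obtain ⟨k1, k2⟩ := h4
  obtain ⟨-, -, k3, k4⟩ := h3
  simp [ha', e1, e2, e3, e4, e5, e6, e7, e8] at k1 k2 k3 k4
  ext <;> simp [e1, e2, e3, e4, e5, e6, e7, e8] <;> grind

theorem SQ (hq : Nat.card K = 2) {a : OU K} (ha : a ∈ (sQ : Subgroup (OU K))) (hS : f.u a ∈ S f) :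
    a = 1 := by
  have := nilp (K := K)
  refine nil_fix (Y8 1) (fun a => a ∈ (sQ : Subgroup (OU K)) ∧ f.u a ∈ S f) (fun a ⟨h1, h2⟩ => ⟨?_, ?_⟩)
    (fun a ⟨h1, h2⟩ e => base f hq h1 h2 ?_) ⟨ha, hS⟩
  · exact mul_mem (bru_cQ _ h1) (inv_mem h1)
  · have hy := U8_S f (e := Y8 1) (by simp)
    simp only [map_mul, map_inv]
    exact mul_mem (mul_mem (mul_mem hy h2) (inv_mem hy)) (inv_mem h2)
  · rw [mul_inv_eq_one, mul_inv_eq_iff_eq_mul] at e
    exact e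

end R2x

variable [Finite K] [Finite G]

open R2x in
theorem FR0.mid_n (f : FR0 K G) (h : Hy f.toCR) (hq : Nat.card K = 2) {b : G} (bb : b * b = 1) (b1 : b ≠ 1)
    (b8 : b ≠ f.u (X8 1)) (h0 : Commute b f.toCR.τ)
    (h4 : Commute b ((f.m * f.n) ^ 4 * f.toCR.τ * ((f.m * f.n) ^ 4)⁻¹)) :
    Commute f.n ((f.m * f.n) ^ 4 * f.toCR.τ * ((f.m * f.n) ^ 4)⁻¹) ∨
      Commute (f.u (X2 1 * X6 1) * f.n) ((f.m * f.n) ^ 4 * f.toCR.τ * ((f.m * f.n) ^ 4)⁻¹) := by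
  have h01 := TwoA.zero_or_one hq
  have hb : b ∈ S f := (mem_S f).2 ⟨h0, h4⟩
  change Commute f.n (P4 f) ∨ Commute (f.u (X2 1 * X6 1) * f.n) (P4 f)
  rcases f.toCR.q2_mem hq (h.cent_two hq h0) with ⟨a, rfl⟩ | ⟨a, e, he, rfl⟩
  · exfalso
    have hE := U8_S f (bru_E8_mem a.y8 a.x8)
    have h1 : bruQ a = 1 := SQ f hq (bruQ_mem a) (by
      rw [eq_mul_inv_of_mul_eq (bruQ_mul a), map_mul, map_inv]
      exact mul_mem hb (inv_mem hE))
    have h2 := bruQ_mul a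
    rw [h1, one_mul] at h2
    rw [← map_mul, ← map_one f.u, f.toCR.u_eq] at bb
    have h3 := congrArg OU.x8 bb
    have h5 : a.y8 = 0 := by
      rcases h01 a.y8 with k | k
      · exact k
      · simp [k, CharTwo.add_self_eq_zero] at h3
    rcases h01 a.x8 with k | k
    · exact b1 (by rw [← h2, h5, k, ← map_one f.u]; congr 1)
    · exact b8 (by rw [← h2, h5, k]; congr 1)
  · have hE := U8_S f (bru_E8_mem a.y8 a.x8)
    set q := (E8 a.y8 a.x8)⁻¹ * a with hq'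
    have hqQ : q ∈ (sQ : Subgroup (OU K)) := by
      have := bru_cQ (E8 a.y8 a.x8)⁻¹ (bruQ_mem a)
      rwa [inv_inv, mul_assoc, bruQ_mul] at this
    have hn : f.u q * f.n ∈ S f := by
      have := mul_mem (mul_mem (inv_mem hE) hb) (inv_mem (U8_S f he))
      rw [hq', map_mul, map_inv]
      convert this using 1
      group
    have hy4 : f.n * f.u (Y4 1) = f.u (Y4 1) * f.n := (Rl.n_u f (a := Y4 1) (by simp)).eq
    have hY4 : (Y4 1 : OU K) ∈ (sQ : Subgroup (OU K)) := by simp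
    have h1 : (Y4 1)⁻¹ * q * Y4 1 * q⁻¹ = 1 := SQ f hq
      (mul_mem (mul_mem (mul_mem (inv_mem hY4) hqQ) hY4) (inv_mem hqQ)) (by
        have := mul_mem (y4_S f hq hn) (inv_mem hn)
        simp only [map_mul, map_inv]
        convert this using 1
        rw [mul_assoc _ (f.u q * f.n), mul_assoc (f.u q), hy4]
        group)
    have hR : q ∈ (sR : Subgroup (OU K)) := cY4 h01 hqQ (by
      rw [mul_inv_eq_one, mul_assoc, inv_mul_eq_iff_eq_mul] at h1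
      exact h1)
    have hs := bru_cQ (Y8 1) hqQ
    set s := Y8 1 * q * (Y8 1)⁻¹ with hs'
    have hy := U8_S f (e := Y8 1) (by simp)
    have hx := U8_S f (e := X8 1) (by simp)
    have e1 : f.u (Y8 1) * f.u q = f.u s * f.u (Y8 1) := by
      rw [← map_mul, ← map_mul, hs', inv_mul_cancel_right]
    have h2 : q * nu s * s⁻¹ = 1 := SQ f hq (mul_mem (mul_mem hqQ (by simp)) (inv_mem hs)) (by
      have := mul_mem (mul_mem (mul_mem hn hy) hn) (inv_mem (mul_mem (mul_mem hy hn) hx))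
      simp only [map_mul, map_inv]
      convert this using 1
      rw [eq_mul_inv_iff_mul_eq]
      calc f.u q * f.u (nu s) * (f.u s)⁻¹ * (f.u (Y8 1) * (f.u q * f.n) * f.u (X8 1))
          = f.u q * f.u (nu s) * (f.u s)⁻¹ * (f.u (Y8 1) * f.u q) * f.n * f.u (X8 1) := by group
        _ = f.u q * f.u (nu s) * (f.u (Y8 1) * f.n * f.u (X8 1)) := by rw [e1]; group
        _ = f.u q * (f.u (nu s) * f.n) * f.u (Y8 1) * f.n := by rw [← f.toCR.f20 hq]; group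
        _ = f.u q * f.n * (f.u s * f.u (Y8 1)) * f.n := by rw [← f.toCR.bru_nu hs]; group
        _ = _ := by rw [← e1]; group)
    rcases last h01 hR (mul_inv_eq_one.1 h2) with k | k
    · left
      simpa [k] using ((mem_S f).1 hn).2
    · right
      exact k ▸ ((mem_S f).1 hn).2

end Cfsg.Agent.OCT
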