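import Cfsg.Agent.OCT.Model
import Cfsg.Agent.OCT.Chr
import Cfsg.Agent.OCT.Iso2
import Cfsg.Agent.S1068
import Mathlib.GroupTheory.Transfer

/-! From the hypotheses of the rows to `Hy` (notes/OCT.md, "Setup"). -/

set_option autoImplicit false

namespace Cfsg.Agent.OCT

open OU Subgroup

universe u v

/-- If the 2-elements of a normal subgroup are central in it and `O(M) = 1`, it is a 2-group. -/
theorem Stp.two_of_central {M : Type*} [Group M] [Finite M] (hO : Cfsg.oddCore M = ⊥) (A : Subgroup M)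
    (hA : A.Normal) (h : ∀ g ∈ A, Two g → ∀ x ∈ A, Commute x g) : ∀ g ∈ A, Two g := by
  have : Fact (Nat.Prime 2) := ⟨Nat.prime_two⟩
  obtain ⟨P⟩ : Nonempty (Sylow 2 A) := inferInstance
  have hP : (P : Subgroup A) ≤ center A := fun g hg => mem_center_iff.2 fun x => Subtype.ext
    (h g g.2 ((P.isPGroup' ⟨g, hg⟩).imp fun _ e => congrArg (fun y : P => ((y : A) : M)) e) x x.2)
  have hn : Odd (center A).index :=
    Nat.odd_iff.2 (Nat.two_dvd_ne_zero.1 fun d => P.not_dvd_index (d.trans (index_dvd_of_le hP)))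
  let N : Subgroup M :=
    { carrier := {x | x ∈ A ∧ ∃ n, Odd n ∧ x ^ n = 1}
      one_mem' := ⟨A.one_mem, 1, odd_one, pow_one _⟩
      inv_mem' := fun ⟨h1, n, h2, h3⟩ => ⟨A.inv_mem h1, n, h2, by rw [inv_pow, h3, inv_one]⟩
      mul_mem' := fun {x y} ⟨hx, a, ha, ea⟩ ⟨hy, b, hb, eb⟩ => ⟨A.mul_mem hx hy, _, hn.mul (ha.mul hb), by
        have e : (x * y) ^ (center A).index = x ^ (center A).index * y ^ (center A).index := by
          have := congrArg (fun z : center A => ((z : A) : M))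
            ((MonoidHom.transferCenterPow A).map_mul ⟨x, hx⟩ ⟨y, hy⟩)
          simpa [MonoidHom.transferCenterPow_apply] using this
        have c : Commute (x ^ (center A).index) (y ^ (center A).index) := congrArg Subtype.val
          (mem_center_iff.1 ((center A).pow_index_mem ⟨y, hy⟩) ((⟨x, hx⟩ : A) ^ (center A).index))
        rw [pow_mul, e, c.mul_pow, ← pow_mul, ← pow_mul, mul_left_comm, pow_mul, ea, one_pow, one_mul,
          ← mul_assoc, mul_comm _ b, pow_mul, eb, one_pow]⟩ }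
  have hN : N ≤ Cfsg.oddCore M := le_sSup ⟨⟨fun x ⟨h1, n, h2, h3⟩ g =>
    ⟨hA.conj_mem x h1 g, n, h2, by rw [conj_pow, h3, mul_one, mul_inv_cancel]⟩⟩, by
      refine ((Nat.Prime.coprime_iff_not_dvd Nat.prime_two).2 fun d => ?_).symm
      obtain ⟨x, e⟩ := exists_prime_orderOf_dvd_card' 2 d
      obtain ⟨-, n, h2, h3⟩ := x.2
      rw [← orderOf_coe] at e
      exact absurd (h2.of_dvd_nat (e ▸ orderOf_dvd_of_pow_eq_one h3)) (by decide)⟩
  intro g hg
  obtain ⟨j, n, hn, e⟩ := Nat.exists_eq_two_pow_mul_odd (orderOf_pos g).ne'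
  exact ⟨j, mem_bot.1 (hO ▸ hN ⟨A.pow_mem hg _, n, hn, by rw [← pow_mul, ← e, pow_orderOf_eq_one]⟩)⟩

theorem Stp.exists_root {K : Type u} [Field K] [Tits K] [Finite K] {G : Type v} [Group G] (c : CR K G)
    {t : G} (ht : t ∈ c.S sZ) (h1 : t ≠ 1) : ∃ α : Kˣ, c.u (torA (α, 1) (X4 1)) = t := by
  obtain ⟨a, ⟨h0, h1', h2, h3, h4, h5, h6, h7, h8, h9, h10⟩, rfl⟩ := ht
  obtain ⟨r, hr⟩ :=
    Finite.surjective_of_injective (f := fun a : K => a ^ 2 * σ a) (fun _ _ => nrm2_inj) a.x4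
  have r0 : r ≠ 0 := by
    rintro rfl
    refine h1 (Eq.trans (congrArg c.u ?_) (map_one c.u))
    have : a.x4 = 0 := by simpa using hr.symm
    ext <;> simp [*]
  refine ⟨Units.mk0 r r0, congrArg c.u ?_⟩
  ext <;> simp [*]

theorem setup {G : Type v} [Group G] [Finite G] (τ : G) (hτ : orderOf τ = 2) (S : Sylow 2 G)
    (hτc : ∀ s ∈ (S : Subgroup G), s * τ = τ * s) {K : Type u} [Field K] [Fintype K] (m : ℕ)
    (hK : Fintype.card K = 2 ^ (2 * m + 1)) (U : Sylow 2 ↥(Cfsg.Lie.twistedF4 K (2 ^ m)))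
    (z : ↥(Cfsg.Lie.twistedF4 K (2 ^ m))) (hz : orderOf z = 2)
    (hzU : z ∈ (U : Subgroup ↥(Cfsg.Lie.twistedF4 K (2 ^ m))))
    (hzc : ∀ u ∈ (U : Subgroup ↥(Cfsg.Lie.twistedF4 K (2 ^ m))), u * z = z * u)
    (C : Subgroup G) (hCle : C ≤ Subgroup.centralizer ({τ} : Set G))
    (hCn : (C.subgroupOf (Subgroup.centralizer ({τ} : Set G))).Normal)
    (hρ : Odd (C.relIndex (Subgroup.centralizer ({τ} : Set G))))
    (e : ↥C ≃* ↥(Subgroup.centralizer ({z} : Set ↥(Cfsg.Lie.twistedF4 K (2 ^ m)))))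
    (hO : Cfsg.oddCore ↥(Subgroup.centralizer ({τ} : Set G)) = ⊥) :
    ∃ (_ : Tits K) (f : FR K (Cfsg.Lie.twistedF4 K (2 ^ m))) (c : CR K G),
      f.toFR0.gen = ⊤ ∧ Hy c ∧ c.C = C ∧ c.τ = τ := by
  have : Fact (Nat.Prime 2) := ⟨Nat.prime_two⟩
  obtain ⟨inst, f, hf⟩ := model hK
  have hF := Cfsg.Agent.S1068.result hK
  have hq : Even (2 ^ (2 * m + 1)) := (Nat.even_pow.2 ⟨even_two, by omega⟩)
  have hp : 1 ≤ 2 ^ (2 * m + 1) := Nat.one_le_two_pow
  generalize Cfsg.Lie.twistedF4 K (2 ^ m) = F at *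
  generalize 2 ^ (2 * m + 1) = q at *
  have hodd : Odd ((q - 1) * (q ^ 3 + 1) * (q ^ 4 - 1) * (q ^ 6 + 1)) :=
    (((Nat.Even.sub_odd hp hq odd_one).mul (hq.pow_of_ne_zero (by decide)).add_one).mul
      (Nat.Even.sub_odd (Nat.one_le_pow _ _ hp) (hq.pow_of_ne_zero (by decide)) odd_one)).mul
      (hq.pow_of_ne_zero (by decide)).add_one
  have hF' : Nat.card F = q ^ 12 * ((q - 1) * (q ^ 3 + 1) * (q ^ 4 - 1) * (q ^ 6 + 1)) := by
    rw [hF]; ring
  have : Finite F := Nat.finite_of_card_ne_zero (hF' ▸ mul_ne_zero (by positivity) hodd.pos.ne')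
  have hi := f.toCR.U.card_mul_index
  rw [f.toCR.card_U, Nat.card_eq_fintype_card, hK, hF', Nat.mul_right_inj (by positivity)] at hi
  obtain ⟨g, hg⟩ := MulAction.exists_smul_eq F U (f.toCR.isPGroup_U.toSylow
    (hi ▸ Nat.two_dvd_ne_zero.2 (Nat.odd_iff.1 hodd)))
  have hg' : ∀ x, x ∈ f.toCR.U ↔ g⁻¹ * x * g ∈ (U : Subgroup F) := fun x => by
    rw [← f.toCR.isPGroup_U.toSylow_coe (hi ▸ Nat.two_dvd_ne_zero.2 (Nat.odd_iff.1 hodd)), ← hg,
      Sylow.coe_subgroup_smul, mem_pointwise_smul_iff_inv_smul_mem]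
    simp
  have z1 : z ≠ 1 := fun h => by rw [h, orderOf_one] at hz; exact absurd hz (by decide)
  obtain ⟨α, hα⟩ := Stp.exists_root f.toCR (t := g * z * g⁻¹)
    (f.toCR.cent_Q (f.toCR.U_le_C ((hg' _).2 (by simpa [mul_assoc] using hzU))) fun x hx => by
      have := Commute.conj (hzc _ ((hg' x).1 (f.toCR.S_le_U _ hx))) g
      simpa [mul_assoc] using this.symm) (by simpa using z1)
  have hτ1 : (f.toCR.cj (g⁻¹ * f.h (α, 1))).τ = z := by
    rw [CR.cj_τ, CR.τ, mul_inv_rev, mul_assoc, mul_assoc, ← mul_assoc (f.h _), ← mul_assoc (_ * _), f.hu, hα]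
    group
  have hC1 : (f.toCR.cj (g⁻¹ * f.h (α, 1))).C = centralizer {z} := by
    ext x
    rw [mem_centralizer_singleton_iff, ← hτ1]
    refine ⟨fun hx => CR.comm_Z _ hx (CR.τ_mem_Z _), fun hx => ?_⟩
    refine f.toCR.mem_cj_C.2 (f.cent (hf ▸ mem_top _) ?_)
    simpa [mul_assoc] using Commute.conj hx (g⁻¹ * f.h (α, 1))⁻¹
  set c₂ := ((f.toCR.cj (g⁻¹ * f.h (α, 1))).res _ hC1.le).map (C.subtype.comp e.symm.toMonoidHom)
    (C.subtype_injective.comp e.symm.injective) with hc₂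
  have hC2 : c₂.C = C := by
    rw [hc₂, CR.map_C]
    refine le_antisymm (by rintro _ ⟨x, -, rfl⟩; exact (e.symm x).2) fun x hx =>
      ⟨e ⟨x, hx⟩, (CR.mem_res_C _ _ _).2 (hC1.ge (e ⟨x, hx⟩).2), by simp⟩
  have two : ∀ x, Two x → Commute x τ → x ∈ C := fun x ⟨j, hj⟩ hx => by
    obtain ⟨k, hk⟩ := exists_pow_eq_self_of_coprime (x := x)
      (((Nat.coprime_two_right.2 hρ).pow_right j).coprime_dvd_right (orderOf_dvd_of_pow_eq_one hj))
    exact hk ▸ C.pow_mem ((C.subgroupOf _).pow_index_mem ⟨x, mem_centralizer_singleton_iff.2 hx⟩) k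
  have τ1 : τ ≠ 1 := fun h => by rw [h, orderOf_one] at hτ; exact absurd hτ (by decide)
  have hτC : τ ∈ C := two τ ⟨1, by rw [pow_one, ← hτ, pow_orderOf_eq_one]⟩ (Commute.refl τ)
  obtain ⟨β, hβ⟩ := Stp.exists_root c₂ (c₂.cent_Q (hC2.ge hτC) fun x hx =>
    Commute.symm (mem_centralizer_singleton_iff.1 (hCle (hC2.le (c₂.S_le_C _ hx))))) τ1
  obtain ⟨c, hC, hu, -, -⟩ := c₂.exists_twist (β, 1)
  have hcτ : c.τ = τ := (hu _).trans hβ
  rw [hC2] at hC
  have norm : ∀ k, Commute k τ → ∀ x ∈ C, k * x * k⁻¹ ∈ C := fun k hk x hx =>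
    hCn.conj_mem ⟨x, hCle hx⟩ hx ⟨k, mem_centralizer_singleton_iff.2 hk⟩
  refine ⟨inst, f, c, hf, ⟨by rwa [hC, hcτ], by rwa [hC, hcτ], fun d => ?_, fun x hx => ?_⟩, hC, hcτ⟩
  · rw [← relIndex_mul_index c.U_le_C, hC, ← relIndex_mul_index hCle, Nat.prime_two.dvd_mul,
      Nat.prime_two.dvd_mul] at d
    rcases d with d | d | d
    · exact c.odd_relIndex (hC ▸ d)
    · exact Nat.two_dvd_ne_zero.2 (Nat.odd_iff.1 hρ) d
    · exact S.not_dvd_index (d.trans (index_dvd_of_le fun s hs => mem_centralizer_singleton_iff.2 (hτc s hs)))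
  · have τQ : τ ∈ c.S sQ := hcτ ▸ c.u_mem_S.2 (by simp)
    have key : ∀ y, (∀ x ∈ c.S sQ, Commute y x) → Two y → y ∈ c.S sZ := fun y hy h2 =>
      c.cent_Q (hC.ge (two y h2 (hy τ τQ))) hy
    obtain ⟨j, hj⟩ := Stp.two_of_central hO ((centralizer (c.S sQ : Set G)).subgroupOf _)
      ⟨fun a ha k y hy => by
        have h1 : (c.cj (k : G)).C = c.C := c.cj_C_eq_iff.2 (mem_normalizer_fintype
          (hC ▸ norm k (mem_centralizer_singleton_iff.1 k.2)))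
        have h2 := Commute.conj (ha _ (c.mem_cj_S.1 ((CR.Q_eq h1).ge hy))) (k : G)
        simpa [mul_assoc] using h2.eq⟩
      (fun a ha h2 y hy => Subtype.ext (hy _ (c.S_mono (A' := sQ) (fun _ h => mem_sQ.2 (mem_sZ.1 h).2.2.2.2.2.2.2.2.2)
        (key a (fun w hw => (ha w hw).symm) (h2.imp fun _ e => congrArg Subtype.val e)))).symm)
      ⟨x, mem_centralizer_singleton_iff.2 (hx τ τQ)⟩ fun y hy => (hx y hy).symm
    exact key x hx ⟨j, congrArg Subtype.val hj⟩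

end Cfsg.Agent.OCT
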