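import Cfsg.Agent.OCT.Rig
import Cfsg.Agent.OCT.Iso1
import Cfsg.Agent.H1.SZConj
import Mathlib.GroupTheory.SchurZassenhaus
import Mathlib.GroupTheory.Nilpotent

/-! notes/OCT.md, section Tor. -/

set_option autoImplicit false
set_option linter.unusedSectionVars false

namespace Cfsg.Agent.OCT

open OU

universe u v w

namespace Tor

open Subgroup Pointwise

section gen

variable {Γ T : Type*} [Group Γ] [Group T] [Finite Γ] [Finite T] (κ : Γ →* T)

theorem cop (h2 : IsPGroup 2 κ.ker) (hT : ¬ 2 ∣ Nat.card T) : (Nat.card κ.ker).Coprime κ.ker.index := by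
  have : Fact (Nat.Prime 2) := ⟨Nat.prime_two⟩
  obtain ⟨j, hj⟩ := h2.exists_card_eq
  rw [hj, index_ker]
  exact Nat.Coprime.pow_left j ((Nat.prime_two.coprime_iff_not_dvd).2 fun h =>
    hT (h.trans (card_subgroup_dvd_card _)))

theorem sec (h2 : IsPGroup 2 κ.ker) (hT : ¬ 2 ∣ Nat.card T) (hs : Function.Surjective κ) :
    ∃ h : T →* Γ, ∀ k, κ (h k) = k := by
  obtain ⟨H, hH⟩ := exists_right_complement'_of_coprime (cop κ h2 hT)
  have hb : Function.Bijective (κ.comp H.subtype) := by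
    refine ⟨(injective_iff_map_eq_one _).2 fun a ha =>
      Subtype.ext (disjoint_def.1 hH.disjoint ha a.2), fun k => ?_⟩
    obtain ⟨g, rfl⟩ := hs k
    obtain ⟨⟨a, b⟩, rfl⟩ := hH.2 g
    exact ⟨b, by simp [MonoidHom.mem_ker.1 a.2]⟩
  exact ⟨H.subtype.comp (MulEquiv.ofBijective _ hb).symm.toMonoidHom,
    fun k => (MulEquiv.ofBijective _ hb).apply_symm_apply k⟩

theorem sec_conj (h2 : IsPGroup 2 κ.ker) (hT : ¬ 2 ∣ Nat.card T) {w : T → T}
    (hw : Function.Injective w) (θ θ' : T →* Γ) (e : ∀ k, κ (θ k) = w k) (e' : ∀ k, κ (θ' k) = w k) :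
    ∃ a, κ a = 1 ∧ ∀ k, θ' k = a * θ k * a⁻¹ := by
  have : Fact (Nat.Prime 2) := ⟨Nat.prime_two⟩
  have key : ∀ θ : T →* Γ, (∀ k, κ (θ k) = w k) → IsComplement' κ.ker θ.range := fun θ e => by
    refine isComplement'_of_disjoint_and_mul_eq_univ (disjoint_def.2 ?_)
      (Set.eq_univ_iff_forall.2 fun g => ?_)
    · rintro _ ha ⟨k, rfl⟩
      rw [hw (show w k = w 1 by rw [← e, ← e, map_one, map_one, MonoidHom.mem_ker.1 ha]), map_one]
    · obtain ⟨k, hk⟩ := Finite.surjective_of_injective hw (κ g)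
      exact ⟨g * (θ k)⁻¹, by simp [e, hk], θ k, ⟨k, rfl⟩, by simp⟩
  have := h2.isNilpotent
  obtain ⟨a, ha, h⟩ := H1.complement_conj κ.ker (cop κ h2 hT) (Or.inl inferInstance) _ _
    (key θ e) (key θ' e')
  refine ⟨a, ha, fun k => ?_⟩
  obtain ⟨l, hl⟩ := h.le (smul_mem_pointwise_smul _ (MulAut.conj a) _ ⟨k, rfl⟩)
  have hl : θ' l = a * θ k * a⁻¹ := hl
  have : l = k := hw (by rw [← e', hl, ← e]; simp [MonoidHom.mem_ker.1 ha])
  rw [← hl, this]

end gen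

variable {K : Type u} [Field K] [Tits K] {G : Type v} [Group G]

theorem sq_inj {s : Kˣ} (h : s ^ 2 = 1) : s = 1 := by
  have h1 : (s : K) ^ 2 = 1 := by simpa using congrArg Units.val h
  have h2 : ((s : K) - 1) ^ 2 = 0 := by linear_combination h1 + (1 - (s : K)) * (two0 : (2 : K) = 0)
  exact Units.ext (sub_eq_zero.1 (pow_eq_zero_iff two_ne_zero |>.1 h2))

theorem odd_T [Finite K] : ¬ 2 ∣ Nat.card (Kˣ × Kˣ) := fun h => by
  have : Fact (Nat.Prime 2) := ⟨Nat.prime_two⟩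
  obtain ⟨k, hk⟩ := exists_prime_orderOf_dvd_card' 2 h
  have h1 := pow_orderOf_eq_one k
  rw [hk] at h1
  have : k = 1 := Prod.ext (sq_inj (congrArg Prod.fst h1)) (sq_inj (congrArg Prod.snd h1))
  rw [this, orderOf_one] at hk
  omega

/-- the weights of the torus on `Y` -/
def wt (k : Kˣ × Kˣ) : Kˣ × Kˣ :=
  (k.1 ^ 2 * σu k.1 * k.2 ^ 3 * σu k.2 ^ 2, k.1 * σu k.1 * k.2 ^ 3 * σu k.2 ^ 2)

theorem wt_mul (k l : Kˣ × Kˣ) : wt (k * l) = wt k * wt l := by
  ext <;> simp [wt] <;> ring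

/-- the weights as a homomorphism -/
def wtH : Kˣ × Kˣ →* Kˣ × Kˣ := MonoidHom.mk' wt wt_mul

theorem wt_inj : Function.Injective (wt : Kˣ × Kˣ → Kˣ × Kˣ) := by
  refine (injective_iff_map_eq_one wtH).2 fun k hk => ?_
  have h1 : (k.1 : K) ^ 2 * σ (k.1 : K) * k.2 ^ 3 * σ (k.2 : K) ^ 2 = 1 := by
    simpa [wtH, wt] using congrArg (fun k : Kˣ × Kˣ => (k.1 : K)) hk
  have h2 : (k.1 : K) * σ (k.1 : K) * k.2 ^ 3 * σ (k.2 : K) ^ 2 = 1 := by
    simpa [wtH, wt] using congrArg (fun k : Kˣ × Kˣ => (k.2 : K)) hk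
  have h3 : (k.1 : K) = 1 := by linear_combination h1 - k.1 * h2
  rw [h3, map_one, one_mul, one_mul] at h2
  have h4 := congrArg σ h2
  simp only [map_mul, map_pow, σσ, map_one] at h4
  have h5 : (k.2 : K) * σ (k.2 : K) = 1 := by linear_combination h4 - k.2 * σ (k.2 : K) * h2
  exact Prod.ext (Units.ext h3) (Units.ext (by
    change (k.2 : K) = 1
    linear_combination h2 - k.2 * (k.2 * σ (k.2 : K) + 1) * h5))

/-- `φ` normalizes `U` and acts on `Z` and `Y / Z` by the scalars `k` -/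
def Ac (c : CR K G) (φ : MulAut G) (k : Kˣ × Kˣ) : Prop :=
  (∀ a, φ (c.u a) ∈ c.U) ∧ (∀ t, φ (c.u (X4 t)) = c.u (X4 (k.1 * t))) ∧
    ∀ t, ∃ r, φ (c.u (X6 t)) = c.u (EY r (k.2 * t))

theorem EY_eq (a b : K) : EY a b = X4 a * X6 b := by ext <;> simp

/-- the pairs `(φ, k)` with `Ac c φ k` -/
def AM (c : CR K G) : Submonoid (MulAut G × (Kˣ × Kˣ)) where
  carrier := {x | Ac c x.1 x.2}
  one_mem' := ⟨fun a => c.u_mem_U a, fun t => by simp, fun t => ⟨0, by
    simp only [Prod.fst_one, Prod.snd_one, MulAut.one_apply, c.u_eq]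
    ext <;> simp⟩⟩
  mul_mem' := fun {x y} hx hy => by
    refine ⟨fun a => ?_, fun t => ?_, fun t => ?_⟩
    · obtain ⟨b, hb⟩ := hy.1 a
      simpa [← hb] using hx.1 b
    · simp [hy.2.1, hx.2.1, mul_assoc]
    · obtain ⟨r, hr⟩ := hy.2.2 t
      obtain ⟨r', hr'⟩ := hx.2.2 (y.2.2 * t)
      refine ⟨x.2.1 * r + r', ?_⟩
      simp only [Prod.fst_mul, Prod.snd_mul, MulAut.mul_apply, hr]
      rw [EY_eq, map_mul, map_mul, hx.2.1, hr', ← map_mul, c.u_eq]
      ext <;> simp [mul_assoc]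

variable [Finite K] [Finite G]

/-- the same as a subgroup -/
def AS (c : CR K G) : Subgroup (MulAut G × (Kˣ × Kˣ)) where
  toSubmonoid := AM c
  inv_mem' := fun {x} hx => by
    have : x⁻¹ = x ^ (orderOf x - 1) := by
      rw [inv_eq_iff_mul_eq_one, ← pow_succ', Nat.sub_add_cancel (orderOf_pos x), pow_orderOf_eq_one]
    rw [this]
    exact (AM c).pow_mem hx _

theorem two_of {c : CR K G} (hC : c.C = ⊤) {φ : MulAut G} (h : Ac c φ 1) : Two φ :=
  c.rig hC φ h.1 (fun t => by simpa using h.2.1 t) fun t => by simpa using h.2.2 t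

variable {c c' : CR K G}

theorem diag (l : Ln c c') (k : Kˣ × Kˣ) :
    ∃ g, ∀ a b, g * c.u (EY a b) * g⁻¹ = c.u (EY (k.1 * a) (k.2 * b)) := by
  have x1 : ∀ r a b : K, c.u (X1 r) * c.u (EY a b) * (c.u (X1 r))⁻¹ = c.u (EY (a + r * b) b) :=
    fun r a b => by
      rw [mul_inv_eq_iff_eq_mul, ← map_mul, ← map_mul, c.u_eq]
      ext <;> simp
      grind
  have w : ∀ r : Kˣ, ∃ g, ∀ a b, g * c.u (EY a b) * g⁻¹ = c.u (EY (r * b) ((r⁻¹ : Kˣ) * a)) :=
    fun r => by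
      obtain ⟨v, -, hv⟩ := l.sur ((r⁻¹ : Kˣ) : K)
      refine ⟨c.u (X1 r) * v * c.u (X1 r), fun a b => ?_⟩
      have : ∀ x y : G, x * v * x * y * (x * v * x)⁻¹ = x * (v * (x * y * x⁻¹) * v⁻¹) * x⁻¹ :=
        fun x y => by group
      have r0 := r.ne_zero
      rw [this, x1, hv, x1, c.u_eq]
      ext <;> simp <;> field_simp <;> grind
  obtain ⟨s, hs⟩ := Finite.surjective_of_injective (f := fun a : K => a * σ a)
    (fun _ _ => nrm_inj) (k.1 * k.2 : Kˣ)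
  have hs : s * σ s = k.1 * k.2 := hs
  have s0 : s ≠ 0 := by rintro rfl; simp at hs
  obtain ⟨g, hg⟩ := w k.1
  obtain ⟨g', hg'⟩ := w 1
  refine ⟨c.d (Units.mk0 s s0) * g * g', fun a b => ?_⟩
  have : ∀ x y : G, x * g * g' * y * (x * g * g')⁻¹ = x * (g * (g' * y * g'⁻¹) * g⁻¹) * x⁻¹ :=
    fun x y => by group
  rw [this, hg', hg, c.du, c.u_eq]
  have := k.1.ne_zero
  ext <;> simp [hs]
  field_simp

theorem norm_of (h : Hy c) {g : G} {k : Kˣ × Kˣ}
    (hg : ∀ a b, g * c.u (EY a b) * g⁻¹ = c.u (EY (k.1 * a) (k.2 * b))) :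
    ∃ hn : g ∈ normalizer (c.C : Set G), Ac (c.res c.C le_rfl) (c.C.normalizerMonoidHom ⟨g, hn⟩) k := by
  have e4 : ∀ t : K, X4 t = EY t 0 := fun t => rfl
  have e6 : ∀ t : K, X6 t = EY 0 t := fun t => rfl
  have hC : (c.cj g).C = c.C := h.cj_C (by rw [CR.τ, e4, hg, c.u_mem_S]; simp)
  have hY : (c.cj g).S sY = c.S sY := by
    refine eq_of_le_of_card_ge ?_ (by rw [CR.card_S, CR.card_S])
    rintro _ ⟨y, hy, rfl⟩
    have : y = EY y.x4 y.x6 := by ext <;> simp_all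
    rw [CR.cj_u, this, hg, c.u_mem_S]
    simp
  have hU := CR.U_eq_of_Y hC hY
  refine ⟨c.cj_C_eq_iff.1 hC, fun a => (c.mem_res_U _ _).2 (hU.le ((c.cj g).u_mem_U a)),
    fun t => Subtype.ext ?_, fun t => ⟨k.1 * 0, Subtype.ext (hg 0 t)⟩⟩
  change g * c.u (X4 t) * g⁻¹ = c.u (X4 _)
  rw [e4, hg, mul_zero, e4]

end Tor

variable {K : Type u} [Field K] [Tits K] {G : Type v} [Group G]

variable [Finite K] [Finite G] {c c' : CR K G}

open Tor Subgroup in
theorem Ln.tor (l : Ln c c') : ∃ p : PR K G, p.toCR.C = c.C ∧ p.toCR.U = c.U ∧ p.toCR.τ = c.τ := by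
  have hy := l.hy
  have zsq : ∀ z ∈ c.S sZ, z * z = 1 := by
    rintro _ ⟨z, hz, rfl⟩
    rw [← map_mul, ← map_one c.u, c.u_eq]
    ext <;> simp_all [CharTwo.add_self_eq_zero]
  have cz : ∀ g : G, (∀ x : c.C, g * x * g⁻¹ = x) → g ∈ c.S sZ := fun g hg =>
    hy.cQ g fun x hx => mul_inv_eq_iff_eq_mul.1 (hg ⟨x, c.S_le_C _ hx⟩)
  obtain ⟨c0, hc0⟩ : ∃ c0, c0 = c.res c.C le_rfl := ⟨_, rfl⟩
  have top : c0.C = ⊤ := hc0 ▸ c.res_C_top
  let π := c.C.normalizerMonoidHom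
  have hπ : ∀ g x, (π g x : G) = g * x * (g : G)⁻¹ := fun _ _ => rfl
  let N := (AS c0).comap (π.prodMap (MonoidHom.id (Kˣ × Kˣ)))
  let κ : AS c0 →* Kˣ × Kˣ := (MonoidHom.snd _ _).comp (AS c0).subtype
  let κ' : N →* Kˣ × Kˣ := (MonoidHom.snd _ _).comp N.subtype
  have k2 : IsPGroup 2 κ.ker := fun x => by
    have e : x.1.1.2 = 1 := x.2
    obtain ⟨j, hj⟩ := two_of top (show Ac c0 x.1.1.1 1 from e ▸ x.1.2)
    exact ⟨j, Subtype.ext (Subtype.ext (Prod.ext hj (by simp [e])))⟩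
  have k2' : IsPGroup 2 κ'.ker := fun x => by
    have e : x.1.1.2 = 1 := x.2
    obtain ⟨j, hj⟩ := two_of top (show Ac c0 (π x.1.1.1) 1 from e ▸ x.1.2)
    rw [← map_pow] at hj
    have := zsq _ (cz _ fun y => by rw [← hπ, hj]; rfl)
    exact ⟨j + 1, Subtype.ext (Subtype.ext (Prod.ext (Subtype.ext (by
      simpa [pow_succ, pow_mul] using this)) (by simp [e])))⟩
  obtain ⟨h0, hh0⟩ := sec κ' k2' odd_T fun k => by
    obtain ⟨g, hg⟩ := diag l k
    obtain ⟨hn, ac⟩ := norm_of hy hg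
    rw [← hc0] at ac
    exact ⟨⟨(⟨g, hn⟩, k), ac⟩, rfl⟩
  obtain ⟨θ, hθ⟩ := c.exists_torAut
  have u0 : ∀ a, c0.u a = ⟨c.u a, c.u_mem a⟩ := fun a => hc0 ▸ rfl
  have d0 : ∀ s, c0.d s = ⟨c.d s, c.d_mem s⟩ := fun a => hc0 ▸ rfl
  have n0 : c0.n = ⟨c.n, c.n_mem⟩ := hc0 ▸ rfl
  have θu : ∀ k a, θ k (c0.u a) = c0.u (torA k a) := fun k a => by
    rw [u0, u0]; exact Subtype.ext ((hθ k).1 a)
  have θd : ∀ k s, θ k (c0.d s) = c0.d s := fun k a => by
    rw [d0]; exact Subtype.ext ((hθ k).2.1 a)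
  have θn : ∀ k, θ k c0.n = c0.d (σu k.2) * c0.n := fun k => by
    rw [d0, n0]; exact Subtype.ext (hθ k).2.2
  let θ1 : Kˣ × Kˣ →* AS c0 := (θ.prod wtH).codRestrict _ fun k => by
    refine ⟨fun a => ?_, fun t => ?_, fun t => ⟨0, ?_⟩⟩
    · change θ k _ ∈ _
      rw [θu]; exact c0.u_mem_U _
    · change θ k _ = c0.u (X4 ((wt k).1 * t))
      rw [θu, c0.u_eq]
      ext <;> simp [wt]
    · change θ k _ = c0.u (EY 0 ((wt k).2 * t))
      rw [θu, c0.u_eq]
      ext <;> simp [wt]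
  let θ2 : Kˣ × Kˣ →* AS c0 :=
    (((π.prodMap (MonoidHom.id (Kˣ × Kˣ))).comp N.subtype).comp (h0.comp wtH)).codRestrict _
      fun k => (h0 (wtH k)).2
  obtain ⟨a, ha, e⟩ := sec_conj κ k2 odd_T wt_inj θ1 θ2 (fun _ => rfl) fun k => hh0 (wtH k)
  have ac : Ac c0 a.1.1 1 := (show a.1.2 = 1 from ha) ▸ a.2
  let h : Kˣ × Kˣ →* G := ((normalizer (c.C : Set G)).subtype.comp
    ((MonoidHom.fst _ _).comp N.subtype)).comp (h0.comp wtH)
  have e' : ∀ k x, h k * (a.1.1 x : G) * (h k)⁻¹ = a.1.1 (θ k x) := fun k x => by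
    have : π (h0 (wtH k)).1.1 = a.1.1 * θ k * a.1.1⁻¹ := congrArg (fun y : AS c0 => y.1.1) (e k)
    have := congrArg (fun ψ : MulAut c.C => (ψ (a.1.1 x) : G)) this
    simp only [hπ, MulAut.mul_apply, MulAut.inv_apply_self] at this
    exact this
  generalize a.1.1 = φ at ac e'
  let f : c.C →* G := c.C.subtype.comp φ.toMonoidHom
  have hf : Function.Injective f := c.C.subtype_injective.comp φ.injective
  have hd : ∀ s, f (c0.d s) = h (dk s) := by
    have key : ∀ s, f (c0.d (s ^ 2)) = h (dk (s ^ 2)) := fun s => by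
      have h1 : ∀ x, θ (dk s) x = c0.d s * x * (c0.d s)⁻¹ := fun x => by
        have : c0.C ≤ (θ (dk s)).toMonoidHom.eqLocus (MulAut.conj (c0.d s)).toMonoidHom := by
          refine c0.C_le (fun a => ?_) (fun r => ?_) ?_
          · change θ _ _ = c0.d s * _ * _
            rw [θu, c0.du, torA_dk]
          · change θ _ _ = c0.d s * _ * _
            rw [θd, ← map_mul, mul_comm s, map_mul, mul_inv_cancel_right]
          · change θ _ _ = c0.d s * _ * _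
            rw [θn, ← c0.nd, dk_apply, σu_σu, sq, map_mul, ← mul_assoc, ← mul_assoc,
              mul_assoc (c0.d s) c0.n, c0.nn, mul_one]
        exact this (top ▸ mem_top x)
      have hz : (f (c0.d s))⁻¹ * h (dk s) ∈ c.S sZ := cz _ fun x => by
        obtain ⟨x, rfl⟩ := φ.surjective x
        rw [show ∀ a b y : G, a⁻¹ * b * y * (a⁻¹ * b)⁻¹ = a⁻¹ * (b * y * b⁻¹) * a from
          fun _ _ _ => by group, e', h1]
        change (f _)⁻¹ * f _ * f _ = f _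
        rw [← map_inv, ← map_mul, ← map_mul]
        congr 1
        group
      have h2 := zsq _ hz
      have h3 := (c.comm_Z (φ (c0.d s)).2 hz).eq
      change f _ * _ = _ * f _ at h3
      simp only [sq, map_mul]
      generalize f (c0.d s) = x at h2 h3
      generalize h (dk s) = y at h2 h3
      calc x * x = x * x * (x⁻¹ * y * (x⁻¹ * y)) := by rw [h2, mul_one]
        _ = x * (x * (x⁻¹ * y)) * (x⁻¹ * y) := by group
        _ = _ := by rw [h3]; group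
    intro s
    obtain ⟨r, rfl⟩ := Finite.surjective_of_injective (f := powMonoidHom (α := Kˣ) 2)
      ((injective_iff_map_eq_one _).2 fun _ => sq_inj) s
    exact key r
  refine ⟨⟨c0.map f hf, h, fun k a => (e' k _).trans (congrArg f (θu k a)), hd, fun α β => ?_⟩,
    ?_, ?_, ?_⟩
  · have h1 : h (α, β) * f c0.n * (h (α, β))⁻¹ = h (dk (σu β)) * f c0.n := by
      rw [← hd, ← map_mul]
      exact (e' _ _).trans (congrArg f (θn _))
    have h2 : f c0.n * f c0.n = 1 := by rw [← map_mul, c0.nn, map_one]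
    have h3 : (α * (β ^ 2 * σu β), β⁻¹) = (dk (σu β))⁻¹ * (α, β) := by
      ext <;> simp [dk_apply]
      · ring
      · field_simp
    rw [h3, map_mul, map_inv, CR.map_n]
    calc _ = (h (dk (σu β)))⁻¹ * (h (dk (σu β)) * f c0.n) * h (α, β) * f c0.n := by group
      _ = (h (dk (σu β)))⁻¹ * h (α, β) * (f c0.n * f c0.n) := by rw [← h1]; group
      _ = _ := by rw [h2, mul_one]
  · change (c0.map f hf).C = _
    rw [CR.map_C, top, ← map_map, map_top_of_surjective _ φ.surjective, ← MonoidHom.range_eq_map,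
      range_subtype]
  · refine eq_of_le_of_card_ge ?_ (by rw [CR.card_U, CR.card_U])
    rintro _ ⟨a, rfl⟩
    obtain ⟨b, hb⟩ := ac.1 a
    exact ⟨b, by rw [u0] at hb; exact congrArg Subtype.val hb⟩
  · change (φ (c0.u (X4 1)) : G) = _
    rw [ac.2.1, u0]
    simp [CR.τ]

end Cfsg.Agent.OCT
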