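import Mathlib.Algebra.CharP.Two
import Mathlib.Algebra.CharP.Basic
import Mathlib.Algebra.Field.Basic
import Mathlib.Tactic.Ring
import Mathlib.Tactic.LinearCombination

/-!
The Sylow 2-subgroup of the large Ree group in coordinates: an element of `OU K` stands for the product
`x₁ y₂ x₂ x₃ y₄ x₄ x₅ y₆ x₆ x₇ y₈ x₈` of root elements.  See `notes/OCT.md`.
-/

set_option autoImplicit false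

namespace Cfsg.Agent.OCT

/-- a field with a square root `σ` of the Frobenius map -/
class Tits (K : Type*) [Field K] where
  σ : K →+* K
  σσ : ∀ t, σ (σ t) = t ^ 2

export Tits (σ σσ)

/-- coordinates of an element of the Sylow 2-subgroup -/
@[ext] structure OU (K : Type*) where
  (x1 y2 x2 x3 y4 x4 x5 y6 x6 x7 y8 x8 : K)

variable {K : Type*} [Field K] [Tits K]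

attribute [simp] σσ

theorem two0 : (2 : K) = 0 := by
  have h := σσ (1 + 1 : K)
  simp only [map_add, map_one] at h
  linear_combination -h

instance charTwo : CharP K 2 := CharTwo.of_one_ne_zero_of_two_eq_zero one_ne_zero two0

namespace OU

/-- the product -/
def mul (a b : OU K) : OU K where
  x1 := a.x1 + b.x1
  y2 := a.y2 + b.y2 + a.y8 * b.x1
  x2 := a.x2 + b.x2 + a.y2 * σ b.y2 + a.y4 * b.x1 + a.y6 * σ b.x1 + a.y2 * σ a.y8 * σ b.x1 + a.y8 * b.x1 * σ b.y2 +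
    a.x8 * b.x1 * σ b.x1
  x3 := a.x3 + b.x3 + a.y4 * b.y2 + σ a.y6 * b.x1 + a.x7 * σ b.x1 + a.y8 * b.x2 + a.y4 * a.y8 * b.x1 +
    a.y8 * b.y2 * σ b.y2 + a.x8 * σ b.x1 * b.y2 + σ a.x8 * b.x1 * σ b.x1 + a.y8 * a.x8 * b.x1 * σ b.x1 +
    a.y8 ^ 2 * σ a.y8 * b.x1 * σ b.x1
  y4 := a.y4 + b.y4 + a.y8 * σ b.y2 + a.x8 * σ b.x1
  x4 := a.x4 + b.x4 + a.y4 * σ b.y4 + a.x5 * b.y2 + a.y6 * b.x3 + a.x6 * b.x1 + a.x7 * b.x2 + a.y8 * σ b.x3 +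
    a.x8 * σ b.x2 + a.x5 * a.y8 * b.x1 + a.y6 * a.x7 * σ b.x1 + a.y6 * a.y8 * b.x2 + a.x7 * b.y2 * σ b.y2 +
    σ a.x7 * b.x1 * b.y2 + a.y8 * σ b.y2 * σ b.y4 + σ a.y8 * b.y2 * b.x3 + a.x8 * b.x1 * b.x3 + a.x8 * σ b.x1 * σ b.y4 +
    a.x8 * b.y2 * b.x2 + σ a.x8 * b.x1 * b.x2 + a.y4 * σ a.y8 * b.y2 ^ 2 + a.y4 * σ a.x8 * b.x1 ^ 2 +
    a.y6 * a.y8 * b.y2 * σ b.y2 + a.y6 * a.x8 * σ b.x1 * b.y2 + a.y6 * σ a.x8 * b.x1 * σ b.x1 +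
    a.x7 * σ a.y8 * σ b.x1 * b.y2 + a.x7 * a.x8 * b.x1 * σ b.x1 + σ a.x7 * a.y8 * b.x1 ^ 2 +
    a.y8 * σ a.y8 * b.x1 * b.x3 + a.y8 * σ a.y8 * b.y2 * b.x2 + a.x8 * b.y2 ^ 2 * σ b.y2 +
    σ a.x8 * b.x1 * b.y2 * σ b.y2 + a.y6 * a.y8 * a.x8 * b.x1 * σ b.x1 + a.x7 * a.y8 * σ a.y8 * b.x1 * σ b.x1 +
    a.y8 * σ a.y8 * b.y2 ^ 2 * σ b.y2 + σ a.y8 * a.x8 * σ b.x1 * b.y2 ^ 2 + σ a.y8 * σ a.x8 * b.x1 * σ b.x1 * b.y2 +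
    a.x8 * σ a.x8 * b.x1 ^ 2 * σ b.x1 + a.x8 ^ 2 * b.x1 * σ b.x1 * b.y2 + a.y6 * a.y8 ^ 2 * σ a.y8 * b.x1 * σ b.x1 +
    a.y8 * σ a.y8 * σ a.x8 * b.x1 ^ 2 * σ b.x1 + a.y8 * a.x8 ^ 2 * b.x1 ^ 2 * σ b.x1 +
    a.y8 ^ 2 * σ a.y8 ^ 2 * b.x1 * σ b.x1 * b.y2 + a.y8 ^ 3 * σ a.y8 ^ 2 * b.x1 ^ 2 * σ b.x1
  x5 := a.x5 + b.x5 + a.y6 * b.y4 + a.x7 * σ b.y2 + σ a.x7 * b.x1 + σ a.y8 * b.x3 + a.x8 * b.x2 + a.y6 * a.y8 * σ b.y2 +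
    a.y6 * a.x8 * σ b.x1 + a.x7 * σ a.y8 * σ b.x1 + a.y8 * σ a.y8 * b.x2 + σ a.y8 * b.y2 * b.y4 + a.x8 * b.x1 * b.y4 +
    σ a.x8 * b.x1 * σ b.y2 + a.y8 * σ a.y8 * b.x1 * b.y4 + σ a.y8 * σ a.x8 * b.x1 * σ b.x1 + a.x8 ^ 2 * b.x1 * σ b.x1 +
    a.y8 ^ 2 * σ a.y8 ^ 2 * b.x1 * σ b.x1
  y6 := a.y6 + b.y6 + σ a.y8 * b.y2 + a.x8 * b.x1 + a.y8 * σ a.y8 * b.x1
  x6 := a.x6 + b.x6 + a.y6 * σ b.y6 + a.x7 * b.y4 + σ a.x7 * b.y2 + a.y8 * b.x5 + a.x8 * b.x3 + σ a.x8 * b.x2 +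
    a.y6 * σ a.x8 * σ b.x1 + a.x7 * a.y8 * σ b.y2 + a.x7 * a.x8 * σ b.x1 + σ a.x7 * a.y8 * b.x1 + a.y8 * a.x8 * b.x2 +
    σ a.y8 * b.y2 * σ b.y6 + a.x8 * b.x1 * σ b.y6 + a.x8 * b.y2 * b.y4 + σ a.x8 * b.x1 * b.y4 + σ a.x8 * b.y2 * σ b.y2 +
    a.y6 * a.y8 ^ 2 * σ b.y2 + a.y8 * σ a.y8 * b.x1 * σ b.y6 + a.y8 * a.x8 * b.x1 * b.y4 +
    a.y8 * σ a.x8 * b.x1 * σ b.y2 + a.y8 ^ 2 * σ a.y8 * b.x2 + σ a.y8 * σ a.x8 * σ b.x1 * b.y2 +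
    a.x8 ^ 2 * σ b.x1 * b.y2 + a.y6 * a.y8 ^ 2 * σ a.y8 * σ b.x1 + a.y8 * σ a.y8 * σ a.x8 * b.x1 * σ b.x1 +
    a.y8 * a.x8 ^ 2 * b.x1 * σ b.x1 + a.y8 ^ 2 * σ a.y8 * b.x1 * b.y4 + a.y8 ^ 2 * σ a.y8 ^ 2 * σ b.x1 * b.y2 +
    a.y8 ^ 3 * σ a.y8 ^ 2 * b.x1 * σ b.x1
  x7 := a.x7 + b.x7 + a.y8 * b.y6 + a.x8 * b.y2 + σ a.x8 * b.x1 + a.y8 * a.x8 * b.x1 + a.y8 ^ 2 * σ a.y8 * b.x1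
  y8 := a.y8 + b.y8
  x8 := a.x8 + b.x8 + a.y8 * σ b.y8

/-- the inverse -/
def inv (a : OU K) : OU K where
  x1 := a.x1
  y2 := a.y2 + a.x1 * a.y8
  x2 := a.x2 + a.x1 * a.y4 + σ a.x1 * a.y6 + a.y2 * σ a.y2 + a.x1 * σ a.x1 * a.x8 + a.x1 * σ a.y2 * a.y8 +
    a.x1 * σ a.x1 * a.y8 * σ a.y8
  x3 := a.x3 + a.x1 * σ a.y6 + σ a.x1 * a.x7 + a.y2 * a.y4 + a.x2 * a.y8 + a.x1 * σ a.x1 * σ a.x8 + a.x1 * a.y4 * a.y8 +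
    σ a.x1 * a.y2 * a.x8 + σ a.x1 * a.y6 * a.y8 + a.x1 * σ a.x1 * a.y8 * a.x8 + σ a.x1 * a.y2 * a.y8 * σ a.y8 +
    a.x1 * σ a.x1 * a.y8 ^ 2 * σ a.y8
  y4 := a.y4 + σ a.x1 * a.x8 + σ a.y2 * a.y8 + σ a.x1 * a.y8 * σ a.y8
  x4 := a.x4 + a.x1 * a.x6 + a.y2 * a.x5 + a.x2 * a.x7 + σ a.x2 * a.x8 + a.x3 * a.y6 + σ a.x3 * a.y8 + a.y4 * σ a.y4 +
    a.x1 * a.y2 * σ a.x7 + a.x1 * a.x2 * σ a.x8 + a.x1 * a.x3 * a.x8 + a.x1 * a.y4 * a.x7 + a.x1 * a.y6 * σ a.y6 +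
    σ a.x1 * a.y6 * a.x7 + a.y2 * a.x2 * a.x8 + a.y2 * a.x3 * σ a.y8 + a.y2 * a.y4 * a.y6 + σ a.x2 * a.y8 * σ a.y8 +
    a.x1 * σ a.x1 * a.y6 * σ a.x8 + a.x1 * σ a.x1 * a.x7 * a.x8 + a.x1 * a.y2 * σ a.y6 * σ a.y8 +
    a.x1 ^ 2 * a.y4 * σ a.x8 + a.x1 ^ 2 * σ a.x7 * a.y8 + σ a.x1 * a.y2 * a.y6 * a.x8 + σ a.x1 * a.y2 * a.x7 * σ a.y8 +
    σ a.x1 * a.y6 ^ 2 * a.y8 + a.y2 ^ 2 * σ a.y2 * a.x8 + a.y2 ^ 2 * a.y4 * σ a.y8 +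
    a.x1 * σ a.x1 * a.y2 * σ a.y8 * σ a.x8 + a.x1 * σ a.x1 * a.y2 * a.x8 ^ 2 + a.x1 * a.x2 * a.y8 ^ 2 * σ a.y8 +
    a.x1 ^ 2 * σ a.x1 * a.x8 * σ a.x8 + a.x1 ^ 2 * σ a.y6 * a.y8 * σ a.y8 + σ a.x1 * a.y2 ^ 2 * σ a.y8 * a.x8 +
    a.y2 ^ 2 * σ a.y2 * a.y8 * σ a.y8 + a.x1 * σ a.x1 * a.y6 * a.y8 ^ 2 * σ a.y8 + a.x1 ^ 2 * σ a.x1 * a.y8 * a.x8 ^ 2 +
    a.x1 ^ 2 * a.y4 * a.y8 ^ 2 * σ a.y8 + σ a.x1 * a.y2 ^ 2 * a.y8 * σ a.y8 ^ 2 +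
    a.x1 * σ a.x1 * a.y2 * a.y8 ^ 2 * σ a.y8 ^ 2 + a.x1 ^ 2 * σ a.x1 * a.y8 ^ 2 * σ a.y8 * a.x8
  x5 := a.x5 + a.x1 * σ a.x7 + σ a.y2 * a.x7 + a.x2 * a.x8 + a.x3 * σ a.y8 + a.y4 * a.y6 + a.x1 * σ a.y2 * σ a.x8 +
    a.x1 * σ a.y6 * σ a.y8 + σ a.x1 * a.y6 * a.x8 + σ a.x1 * a.x7 * σ a.y8 + a.y2 * σ a.y2 * a.x8 +
    a.x1 * σ a.x1 * σ a.y8 * σ a.x8 + a.x1 * σ a.x1 * a.x8 ^ 2 + a.x1 * σ a.y2 * a.y8 ^ 2 * σ a.y8 +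
    a.x1 * σ a.x1 * a.y8 ^ 2 * σ a.y8 ^ 2
  y6 := a.y6 + a.x1 * a.x8 + a.y2 * σ a.y8
  x6 := a.x6 + a.y2 * σ a.x7 + a.x2 * σ a.x8 + a.x3 * a.x8 + a.y4 * a.x7 + a.x5 * a.y8 + a.y6 * σ a.y6 +
    a.x1 * σ a.x7 * a.y8 + σ a.x1 * a.y6 * σ a.x8 + σ a.x1 * a.x7 * a.x8 + a.y2 * σ a.y6 * σ a.y8 +
    σ a.y2 * a.x7 * a.y8 + a.x2 * a.y8 * a.x8 + a.x3 * a.y8 * σ a.y8 + a.y4 * a.y6 * a.y8 +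
    a.x1 * σ a.y2 * a.y8 * σ a.x8 + a.x1 * σ a.y6 * a.y8 * σ a.y8 + σ a.x1 * a.y2 * σ a.y8 * σ a.x8 +
    σ a.x1 * a.y2 * a.x8 ^ 2 + σ a.x1 * a.y6 * a.y8 * a.x8 + σ a.x1 * a.x7 * a.y8 * σ a.y8 +
    a.y2 * σ a.y2 * a.y8 * a.x8 + a.x2 * a.y8 ^ 2 * σ a.y8 + a.x1 * σ a.x1 * a.y8 * σ a.y8 * σ a.x8 +
    a.x1 * σ a.x1 * a.y8 * a.x8 ^ 2 + σ a.x1 * a.y6 * a.y8 ^ 2 * σ a.y8 + a.x1 * σ a.y2 * a.y8 ^ 3 * σ a.y8 +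
    σ a.x1 * a.y2 * a.y8 ^ 2 * σ a.y8 ^ 2 + a.x1 * σ a.x1 * a.y8 ^ 3 * σ a.y8 ^ 2
  x7 := a.x7 + a.x1 * σ a.x8 + a.y2 * a.x8 + a.y6 * a.y8 + a.x1 * a.y8 * a.x8 + a.y2 * a.y8 * σ a.y8 +
    a.x1 * a.y8 ^ 2 * σ a.y8
  y8 := a.y8
  x8 := a.x8 + a.y8 * σ a.y8

/-- conjugation by `n` on `Q = {y8 = x8 = 0}` (`i ↦ 8 - i`) -/
@[simps] def nu (a : OU K) : OU K where
  x1 := a.x7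
  y2 := a.y6
  x2 := a.x6 + a.y2 * σ a.x7 + a.y4 * a.x7
  x3 := a.x5 + a.x1 * σ a.x7 + σ a.y2 * a.x7 + a.y4 * a.y6
  y4 := a.y4
  x4 := a.x4 + a.x1 * a.x6 + a.y2 * a.x5 + a.x2 * a.x7 + a.x3 * a.y6 + a.x1 * a.y2 * σ a.x7 + a.x1 * a.y4 * a.x7 +
    a.x1 * a.y6 * σ a.y6 + σ a.x1 * a.y6 * a.x7 + a.y2 * a.y4 * a.y6
  x5 := a.x3 + a.x1 * σ a.y6 + σ a.x1 * a.x7 + a.y2 * a.y4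
  y6 := a.y2
  x6 := a.x2 + a.x1 * a.y4 + σ a.x1 * a.y6
  x7 := a.x1
  y8 := 0
  x8 := 0

/-- conjugation by `m` on `T = {x1 = 0}` (`i ↦ 10 - i`) -/
@[simps] def mu (a : OU K) : OU K where
  x1 := 0
  y2 := a.y8
  x2 := a.x8
  x3 := a.x7 + a.y2 * a.x8 + a.y6 * a.y8 + a.y2 * a.y8 * σ a.y8
  y4 := a.y6 + a.y2 * σ a.y8
  x4 := a.x6 + a.y2 * σ a.x7 + a.x2 * σ a.x8 + a.x3 * a.x8 + a.y4 * a.x7 + a.x5 * a.y8 + σ a.y2 * a.x7 * a.y8 +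
    a.x2 * a.y8 * a.x8 + a.x3 * a.y8 * σ a.y8 + a.y4 * a.y6 * a.y8 + a.y2 * σ a.y2 * a.y8 * a.x8 +
    σ a.y2 * a.y6 * a.y8 ^ 2 + a.x2 * a.y8 ^ 2 * σ a.y8 + a.y2 * σ a.y2 * a.y8 ^ 2 * σ a.y8
  x5 := a.x5 + σ a.y2 * a.x7 + a.x2 * a.x8 + a.x3 * σ a.y8 + a.y4 * a.y6 + a.y2 * σ a.y2 * a.x8
  y6 := a.y4 + σ a.y2 * a.y8
  x6 := a.x4 + a.y2 * a.x5 + a.x2 * a.x7 + σ a.x2 * a.x8 + a.x3 * a.y6 + σ a.x3 * a.y8 + a.y2 * a.x2 * a.x8 +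
    a.y2 * a.x3 * σ a.y8 + a.y2 * a.y4 * a.y6 + σ a.y2 * σ a.y4 * a.y8 + σ a.x2 * a.y8 * σ a.y8 +
    a.y2 ^ 2 * σ a.y2 * a.x8
  x7 := a.x3 + a.y2 * a.y4 + a.x2 * a.y8
  y8 := a.y2
  x8 := a.x2

theorem mul_assoc' (a b c : OU K) : mul (mul a b) c = mul a (mul b c) := by
  ext <;> simp only [mul, map_add, map_mul, map_pow, σσ] <;> grind

instance instGroupOU : Group (OU K) where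
  mul := mul
  one := ⟨0, 0, 0, 0, 0, 0, 0, 0, 0, 0, 0, 0⟩
  inv := inv
  mul_assoc := mul_assoc'
  one_mul a := by
    change mul ⟨0, 0, 0, 0, 0, 0, 0, 0, 0, 0, 0, 0⟩ a = a
    ext <;> simp [mul]
  mul_one a := by
    change mul a ⟨0, 0, 0, 0, 0, 0, 0, 0, 0, 0, 0, 0⟩ = a
    ext <;> simp [mul]
  inv_mul_cancel a := by
    change mul (inv a) a = ⟨0, 0, 0, 0, 0, 0, 0, 0, 0, 0, 0, 0⟩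
    ext <;> simp only [mul, inv, map_add, map_mul, map_pow, σσ] <;> grind

section coords
variable (a b : OU K)

@[simp] theorem mul_x1 : (a * b).x1 = a.x1 + b.x1 := rfl
@[simp] theorem mul_y2 : (a * b).y2 = a.y2 + b.y2 + a.y8 * b.x1 := rfl
@[simp] theorem mul_x2 : (a * b).x2 = a.x2 + b.x2 + a.y2 * σ b.y2 + a.y4 * b.x1 + a.y6 * σ b.x1 + a.y2 * σ a.y8 * σ b.x1 +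
    a.y8 * b.x1 * σ b.y2 + a.x8 * b.x1 * σ b.x1 := rfl
@[simp] theorem mul_x3 : (a * b).x3 = a.x3 + b.x3 + a.y4 * b.y2 + σ a.y6 * b.x1 + a.x7 * σ b.x1 + a.y8 * b.x2 + a.y4 * a.y8 * b.x1 +
    a.y8 * b.y2 * σ b.y2 + a.x8 * σ b.x1 * b.y2 + σ a.x8 * b.x1 * σ b.x1 +
    a.y8 * a.x8 * b.x1 * σ b.x1 + a.y8 ^ 2 * σ a.y8 * b.x1 * σ b.x1 := rfl
@[simp] theorem mul_y4 : (a * b).y4 = a.y4 + b.y4 + a.y8 * σ b.y2 + a.x8 * σ b.x1 := rfl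
@[simp] theorem mul_x4 : (a * b).x4 = a.x4 + b.x4 + a.y4 * σ b.y4 + a.x5 * b.y2 + a.y6 * b.x3 + a.x6 * b.x1 + a.x7 * b.x2 +
    a.y8 * σ b.x3 + a.x8 * σ b.x2 + a.x5 * a.y8 * b.x1 + a.y6 * a.x7 * σ b.x1 + a.y6 * a.y8 * b.x2 +
    a.x7 * b.y2 * σ b.y2 + σ a.x7 * b.x1 * b.y2 + a.y8 * σ b.y2 * σ b.y4 + σ a.y8 * b.y2 * b.x3 +
    a.x8 * b.x1 * b.x3 + a.x8 * σ b.x1 * σ b.y4 + a.x8 * b.y2 * b.x2 + σ a.x8 * b.x1 * b.x2 +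
    a.y4 * σ a.y8 * b.y2 ^ 2 + a.y4 * σ a.x8 * b.x1 ^ 2 + a.y6 * a.y8 * b.y2 * σ b.y2 +
    a.y6 * a.x8 * σ b.x1 * b.y2 + a.y6 * σ a.x8 * b.x1 * σ b.x1 + a.x7 * σ a.y8 * σ b.x1 * b.y2 +
    a.x7 * a.x8 * b.x1 * σ b.x1 + σ a.x7 * a.y8 * b.x1 ^ 2 + a.y8 * σ a.y8 * b.x1 * b.x3 +
    a.y8 * σ a.y8 * b.y2 * b.x2 + a.x8 * b.y2 ^ 2 * σ b.y2 + σ a.x8 * b.x1 * b.y2 * σ b.y2 +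
    a.y6 * a.y8 * a.x8 * b.x1 * σ b.x1 + a.x7 * a.y8 * σ a.y8 * b.x1 * σ b.x1 +
    a.y8 * σ a.y8 * b.y2 ^ 2 * σ b.y2 + σ a.y8 * a.x8 * σ b.x1 * b.y2 ^ 2 +
    σ a.y8 * σ a.x8 * b.x1 * σ b.x1 * b.y2 + a.x8 * σ a.x8 * b.x1 ^ 2 * σ b.x1 +
    a.x8 ^ 2 * b.x1 * σ b.x1 * b.y2 + a.y6 * a.y8 ^ 2 * σ a.y8 * b.x1 * σ b.x1 +
    a.y8 * σ a.y8 * σ a.x8 * b.x1 ^ 2 * σ b.x1 + a.y8 * a.x8 ^ 2 * b.x1 ^ 2 * σ b.x1 +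
    a.y8 ^ 2 * σ a.y8 ^ 2 * b.x1 * σ b.x1 * b.y2 + a.y8 ^ 3 * σ a.y8 ^ 2 * b.x1 ^ 2 * σ b.x1 := rfl
@[simp] theorem mul_x5 : (a * b).x5 = a.x5 + b.x5 + a.y6 * b.y4 + a.x7 * σ b.y2 + σ a.x7 * b.x1 + σ a.y8 * b.x3 + a.x8 * b.x2 +
    a.y6 * a.y8 * σ b.y2 + a.y6 * a.x8 * σ b.x1 + a.x7 * σ a.y8 * σ b.x1 + a.y8 * σ a.y8 * b.x2 +
    σ a.y8 * b.y2 * b.y4 + a.x8 * b.x1 * b.y4 + σ a.x8 * b.x1 * σ b.y2 + a.y8 * σ a.y8 * b.x1 * b.y4 +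
    σ a.y8 * σ a.x8 * b.x1 * σ b.x1 + a.x8 ^ 2 * b.x1 * σ b.x1 +
    a.y8 ^ 2 * σ a.y8 ^ 2 * b.x1 * σ b.x1 := rfl
@[simp] theorem mul_y6 : (a * b).y6 = a.y6 + b.y6 + σ a.y8 * b.y2 + a.x8 * b.x1 + a.y8 * σ a.y8 * b.x1 := rfl
@[simp] theorem mul_x6 : (a * b).x6 = a.x6 + b.x6 + a.y6 * σ b.y6 + a.x7 * b.y4 + σ a.x7 * b.y2 + a.y8 * b.x5 + a.x8 * b.x3 +
    σ a.x8 * b.x2 + a.y6 * σ a.x8 * σ b.x1 + a.x7 * a.y8 * σ b.y2 + a.x7 * a.x8 * σ b.x1 +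
    σ a.x7 * a.y8 * b.x1 + a.y8 * a.x8 * b.x2 + σ a.y8 * b.y2 * σ b.y6 + a.x8 * b.x1 * σ b.y6 +
    a.x8 * b.y2 * b.y4 + σ a.x8 * b.x1 * b.y4 + σ a.x8 * b.y2 * σ b.y2 + a.y6 * a.y8 ^ 2 * σ b.y2 +
    a.y8 * σ a.y8 * b.x1 * σ b.y6 + a.y8 * a.x8 * b.x1 * b.y4 + a.y8 * σ a.x8 * b.x1 * σ b.y2 +
    a.y8 ^ 2 * σ a.y8 * b.x2 + σ a.y8 * σ a.x8 * σ b.x1 * b.y2 + a.x8 ^ 2 * σ b.x1 * b.y2 +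
    a.y6 * a.y8 ^ 2 * σ a.y8 * σ b.x1 + a.y8 * σ a.y8 * σ a.x8 * b.x1 * σ b.x1 +
    a.y8 * a.x8 ^ 2 * b.x1 * σ b.x1 + a.y8 ^ 2 * σ a.y8 * b.x1 * b.y4 +
    a.y8 ^ 2 * σ a.y8 ^ 2 * σ b.x1 * b.y2 + a.y8 ^ 3 * σ a.y8 ^ 2 * b.x1 * σ b.x1 := rfl
@[simp] theorem mul_x7 : (a * b).x7 = a.x7 + b.x7 + a.y8 * b.y6 + a.x8 * b.y2 + σ a.x8 * b.x1 + a.y8 * a.x8 * b.x1 +
    a.y8 ^ 2 * σ a.y8 * b.x1 := rfl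
@[simp] theorem mul_y8 : (a * b).y8 = a.y8 + b.y8 := rfl
@[simp] theorem mul_x8 : (a * b).x8 = a.x8 + b.x8 + a.y8 * σ b.y8 := rfl
@[simp] theorem inv_x1 : a⁻¹.x1 = a.x1 := rfl
@[simp] theorem inv_y2 : a⁻¹.y2 = a.y2 + a.x1 * a.y8 := rfl
@[simp] theorem inv_x2 : a⁻¹.x2 = a.x2 + a.x1 * a.y4 + σ a.x1 * a.y6 + a.y2 * σ a.y2 + a.x1 * σ a.x1 * a.x8 + a.x1 * σ a.y2 * a.y8 +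
    a.x1 * σ a.x1 * a.y8 * σ a.y8 := rfl
@[simp] theorem inv_x3 : a⁻¹.x3 = a.x3 + a.x1 * σ a.y6 + σ a.x1 * a.x7 + a.y2 * a.y4 + a.x2 * a.y8 + a.x1 * σ a.x1 * σ a.x8 +
    a.x1 * a.y4 * a.y8 + σ a.x1 * a.y2 * a.x8 + σ a.x1 * a.y6 * a.y8 + a.x1 * σ a.x1 * a.y8 * a.x8 +
    σ a.x1 * a.y2 * a.y8 * σ a.y8 + a.x1 * σ a.x1 * a.y8 ^ 2 * σ a.y8 := rfl
@[simp] theorem inv_y4 : a⁻¹.y4 = a.y4 + σ a.x1 * a.x8 + σ a.y2 * a.y8 + σ a.x1 * a.y8 * σ a.y8 := rfl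
@[simp] theorem inv_x4 : a⁻¹.x4 = a.x4 + a.x1 * a.x6 + a.y2 * a.x5 + a.x2 * a.x7 + σ a.x2 * a.x8 + a.x3 * a.y6 + σ a.x3 * a.y8 +
    a.y4 * σ a.y4 + a.x1 * a.y2 * σ a.x7 + a.x1 * a.x2 * σ a.x8 + a.x1 * a.x3 * a.x8 +
    a.x1 * a.y4 * a.x7 + a.x1 * a.y6 * σ a.y6 + σ a.x1 * a.y6 * a.x7 + a.y2 * a.x2 * a.x8 +
    a.y2 * a.x3 * σ a.y8 + a.y2 * a.y4 * a.y6 + σ a.x2 * a.y8 * σ a.y8 +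
    a.x1 * σ a.x1 * a.y6 * σ a.x8 + a.x1 * σ a.x1 * a.x7 * a.x8 + a.x1 * a.y2 * σ a.y6 * σ a.y8 +
    a.x1 ^ 2 * a.y4 * σ a.x8 + a.x1 ^ 2 * σ a.x7 * a.y8 + σ a.x1 * a.y2 * a.y6 * a.x8 +
    σ a.x1 * a.y2 * a.x7 * σ a.y8 + σ a.x1 * a.y6 ^ 2 * a.y8 + a.y2 ^ 2 * σ a.y2 * a.x8 +
    a.y2 ^ 2 * a.y4 * σ a.y8 + a.x1 * σ a.x1 * a.y2 * σ a.y8 * σ a.x8 +
    a.x1 * σ a.x1 * a.y2 * a.x8 ^ 2 + a.x1 * a.x2 * a.y8 ^ 2 * σ a.y8 +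
    a.x1 ^ 2 * σ a.x1 * a.x8 * σ a.x8 + a.x1 ^ 2 * σ a.y6 * a.y8 * σ a.y8 +
    σ a.x1 * a.y2 ^ 2 * σ a.y8 * a.x8 + a.y2 ^ 2 * σ a.y2 * a.y8 * σ a.y8 +
    a.x1 * σ a.x1 * a.y6 * a.y8 ^ 2 * σ a.y8 + a.x1 ^ 2 * σ a.x1 * a.y8 * a.x8 ^ 2 +
    a.x1 ^ 2 * a.y4 * a.y8 ^ 2 * σ a.y8 + σ a.x1 * a.y2 ^ 2 * a.y8 * σ a.y8 ^ 2 +
    a.x1 * σ a.x1 * a.y2 * a.y8 ^ 2 * σ a.y8 ^ 2 + a.x1 ^ 2 * σ a.x1 * a.y8 ^ 2 * σ a.y8 * a.x8 := rfl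
@[simp] theorem inv_x5 : a⁻¹.x5 = a.x5 + a.x1 * σ a.x7 + σ a.y2 * a.x7 + a.x2 * a.x8 + a.x3 * σ a.y8 + a.y4 * a.y6 +
    a.x1 * σ a.y2 * σ a.x8 + a.x1 * σ a.y6 * σ a.y8 + σ a.x1 * a.y6 * a.x8 + σ a.x1 * a.x7 * σ a.y8 +
    a.y2 * σ a.y2 * a.x8 + a.x1 * σ a.x1 * σ a.y8 * σ a.x8 + a.x1 * σ a.x1 * a.x8 ^ 2 +
    a.x1 * σ a.y2 * a.y8 ^ 2 * σ a.y8 + a.x1 * σ a.x1 * a.y8 ^ 2 * σ a.y8 ^ 2 := rfl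
@[simp] theorem inv_y6 : a⁻¹.y6 = a.y6 + a.x1 * a.x8 + a.y2 * σ a.y8 := rfl
@[simp] theorem inv_x6 : a⁻¹.x6 = a.x6 + a.y2 * σ a.x7 + a.x2 * σ a.x8 + a.x3 * a.x8 + a.y4 * a.x7 + a.x5 * a.y8 + a.y6 * σ a.y6 +
    a.x1 * σ a.x7 * a.y8 + σ a.x1 * a.y6 * σ a.x8 + σ a.x1 * a.x7 * a.x8 + a.y2 * σ a.y6 * σ a.y8 +
    σ a.y2 * a.x7 * a.y8 + a.x2 * a.y8 * a.x8 + a.x3 * a.y8 * σ a.y8 + a.y4 * a.y6 * a.y8 +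
    a.x1 * σ a.y2 * a.y8 * σ a.x8 + a.x1 * σ a.y6 * a.y8 * σ a.y8 + σ a.x1 * a.y2 * σ a.y8 * σ a.x8 +
    σ a.x1 * a.y2 * a.x8 ^ 2 + σ a.x1 * a.y6 * a.y8 * a.x8 + σ a.x1 * a.x7 * a.y8 * σ a.y8 +
    a.y2 * σ a.y2 * a.y8 * a.x8 + a.x2 * a.y8 ^ 2 * σ a.y8 + a.x1 * σ a.x1 * a.y8 * σ a.y8 * σ a.x8 +
    a.x1 * σ a.x1 * a.y8 * a.x8 ^ 2 + σ a.x1 * a.y6 * a.y8 ^ 2 * σ a.y8 +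
    a.x1 * σ a.y2 * a.y8 ^ 3 * σ a.y8 + σ a.x1 * a.y2 * a.y8 ^ 2 * σ a.y8 ^ 2 +
    a.x1 * σ a.x1 * a.y8 ^ 3 * σ a.y8 ^ 2 := rfl
@[simp] theorem inv_x7 : a⁻¹.x7 = a.x7 + a.x1 * σ a.x8 + a.y2 * a.x8 + a.y6 * a.y8 + a.x1 * a.y8 * a.x8 + a.y2 * a.y8 * σ a.y8 +
    a.x1 * a.y8 ^ 2 * σ a.y8 := rfl
@[simp] theorem inv_y8 : a⁻¹.y8 = a.y8 := rfl
@[simp] theorem inv_x8 : a⁻¹.x8 = a.x8 + a.y8 * σ a.y8 := rfl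
@[simp] theorem one_x1 : (1 : OU K).x1 = 0 := rfl
@[simp] theorem one_y2 : (1 : OU K).y2 = 0 := rfl
@[simp] theorem one_x2 : (1 : OU K).x2 = 0 := rfl
@[simp] theorem one_x3 : (1 : OU K).x3 = 0 := rfl
@[simp] theorem one_y4 : (1 : OU K).y4 = 0 := rfl
@[simp] theorem one_x4 : (1 : OU K).x4 = 0 := rfl
@[simp] theorem one_x5 : (1 : OU K).x5 = 0 := rfl
@[simp] theorem one_y6 : (1 : OU K).y6 = 0 := rfl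
@[simp] theorem one_x6 : (1 : OU K).x6 = 0 := rfl
@[simp] theorem one_x7 : (1 : OU K).x7 = 0 := rfl
@[simp] theorem one_y8 : (1 : OU K).y8 = 0 := rfl
@[simp] theorem one_x8 : (1 : OU K).x8 = 0 := rfl

end coords

end OU

end Cfsg.Agent.OCT
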